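import Mathlib
import Cfsg.Prelude.Def_ChevAutomorphisms
import Cfsg.Agent.Known.ChevSubfield
import Cfsg.Agent.ChevGrp.BN
import Cfsg.Agent.Chev.Rules
import Cfsg.Agent.Chev.SnfTables
import Cfsg.Agent.AutPSL.FieldCard

/-!
Fixed points of field automorphisms of the Chevalley groups with unimodular Cartan matrix.
-/

set_option autoImplicit false
set_option linter.unusedSectionVars false

namespace Cfsg.Agent.Known.ChevFieldFixed

open Cfsg.Lie Cfsg.Agent.ChevGrp
open scoped MatrixGroups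

variable {D : ChevalleyDatum} {F : Type*} [Field F] {E : Type*} [Field E]

theorem tHom_map (f : E →+* F) (c : Fin D.rank → Eˣ) :
    Matrix.GeneralLinearGroup.map (n := D.Idx) f (Chev.tHom D E c) =
      Chev.tHom D F fun k => Units.map f.toMonoidHom (c k) := by
  refine Units.ext ?_
  show (Chev.tMat D _).map f = Chev.tMat D _
  rw [Chev.tMat, Chev.tMat, Matrix.diagonal_map (map_zero f)]
  congr 1
  funext i
  rcases i with i | s
  · simp
  · simp only [Function.comp_apply, Sum.elim_inr, map_prod, map_zpow₀]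
    refine Finset.prod_congr rfl fun k hk => ?_
    simp [Finset.mem_range.1 hk]

theorem tHom_injective {C : Chev.Cert} (hV : C.Valid D) (N : Chev.Snf D)
    (hN : ∀ m, ∏ j, Nat.gcd m (N.d j) = 1) [Fintype F] : Function.Injective (Chev.tHom D F) := by
  classical
  have h := hV.card_diagonal N (F := F)
  rw [hN, one_mul, hV.diagonalSubgroup_eq_range] at h
  have hb : Function.Bijective (Chev.tHom D F).rangeRestrict := by
    refine (Nat.bijective_iff_surjective_and_card _).2 ⟨(Chev.tHom D F).rangeRestrict_surjective, ?_⟩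
    rw [h]
    simp [Nat.card_eq_fintype_card, Fintype.card_units]
  exact fun a b e => hb.1 (Subtype.ext e)

variable {C : Chev.Cert}

theorem groupEquiv_eq_of_isFieldAut {φ : ↥(D.group F) ≃* ↥(D.group F)} {σ : F ≃+* F}
    (h : ∀ (g : ↥(D.group F)) (r : ℕ) (t : F), r < D.nroots →
      ((g : GL D.Idx F) : Matrix D.Idx D.Idx F) = D.x F r t →
      ((φ g : GL D.Idx F) : Matrix D.Idx D.Idx F) = D.x F r (σ t)) :
    φ = groupEquiv D σ := by
  refine MulEquiv.ext fun g => ?_
  obtain ⟨g, hg⟩ := g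
  refine Subgroup.closure_induction (p := fun g hg => φ ⟨g, hg⟩ = groupEquiv D σ ⟨g, hg⟩) ?_ ?_ ?_ ?_ hg
  · rintro g ⟨r, t, hr⟩
    have e : D.x F r t = D.xMat F r t := by rw [ChevalleyDatum.x, dif_pos r.2]
    refine Subtype.ext (Units.ext ?_)
    rw [h _ r t r.2 (hr.trans e.symm), groupEquiv_val]
    show _ = (g : Matrix D.Idx D.Idx F).map σ
    rw [hr, ← e]
    exact (x_map D (σ : F →+* F) r t).symm
  · exact (map_one φ).trans (map_one (groupEquiv D σ)).symm
  · intro a b ha hb e1 e2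
    show φ ((⟨a, ha⟩ : ↥(D.group F)) * ⟨b, hb⟩) = groupEquiv D σ ((⟨a, ha⟩ : ↥(D.group F)) * ⟨b, hb⟩)
    rw [map_mul, map_mul, e1, e2]
  · intro a ha e1
    show φ (⟨a, ha⟩ : ↥(D.group F))⁻¹ = groupEquiv D σ (⟨a, ha⟩ : ↥(D.group F))⁻¹
    rw [map_inv, map_inv, e1]

/-- Field automorphisms as automorphisms of the group. -/
noncomputable def fieldHom (D : ChevalleyDatum) (F : Type*) [Field F] :
    (F ≃+* F) →* MulAut ↥(D.group F) where
  toFun σ := groupEquiv D σ
  map_one' := MulEquiv.ext fun g => Subtype.ext (Units.ext (Matrix.ext fun i j => rfl))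
  map_mul' σ τ := MulEquiv.ext fun g => Subtype.ext (Units.ext (Matrix.ext fun i j => rfl))

theorem fieldHom_injective (hV : C.Valid D) (hS : Rules D F) (h0 : 0 < D.rank) :
    Function.Injective (fieldHom D F) := by
  refine (injective_iff_map_eq_one _).2 fun σ hσ => RingEquiv.ext fun t => ?_
  obtain ⟨len, hR⟩ := hS.root
  set r := D.simple 0
  have hr : r < D.nroots := hV.simple_lt h0
  have hmem : ∀ t, (glSys hS).x r t ∈ D.group F := fun t =>
    Subgroup.subset_closure ⟨⟨r, hr⟩, t, by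
      show (xGL D F r t : Matrix D.Idx D.Idx F) = _
      rw [val_xGL hS, ChevalleyDatum.x, dif_pos hr]⟩
  have h1 := congrArg (fun β : MulAut ↥(D.group F) =>
    ((β ⟨_, hmem t⟩ : ↥(D.group F)) : GL D.Idx F)) hσ
  have h2 : (glSys hS).x r (σ t) = (glSys hS).x r t := by
    refine Eq.trans (Units.ext ?_) h1
    show (xGL D F r (σ t) : Matrix D.Idx D.Idx F) = (xGL D F r t : Matrix D.Idx D.Idx F).map σ
    rw [val_xGL hS, val_xGL hS]
    exact (x_map D (σ : F →+* F) r t).symm
  have h3 : (glSys hS).x r (σ t - t) = 1 := by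
    rw [sub_eq_add_neg, ← (glSys hS).x_add r hr, h2, (glSys hS).x_add r hr, add_neg_cancel,
      (glSys hS).x_zero hr]
  have h4 : D.x F r (σ t - t) = 1 := by
    rw [← val_xGL hS r (σ t - t)]
    exact congrArg Units.val h3
  exact sub_eq_zero.1 ((hV.x_eq_one_iff hr).1 h4)

/-- The fixed points of a field automorphism form the group over the fixed field. -/
theorem fixed_iso (hV : C.Valid D) (N : Chev.Snf D) (hN : ∀ m, ∏ j, Nat.gcd m (N.d j) = 1)
    [Fintype F] (hS : Rules D F) (hS₀ : Rules D E) (σ : F ≃+* F) (e : E →+* F)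
    (he : ∀ a : F, σ a = a ↔ ∃ b, e b = a) :
    Nonempty (↥((MulEquiv.toMonoidHom (groupEquiv D σ)).eqLocus (MonoidHom.id ↥(D.group F))) ≃*
      ↥(D.group E)) := by
  obtain ⟨len, hR⟩ := hS.root
  obtain ⟨len₀, hR₀⟩ := hS₀.root
  let ι := Matrix.GeneralLinearGroup.map (n := D.Idx) e
  have hfix : ∀ g : GL D.Idx E, ChevSubfield.glσ (σ : F →+* F) (ι g) = ι g := fun g =>
    Units.ext (Matrix.ext fun i j => (he _).2 ⟨_, rfl⟩)
  let ψ : ↥(D.group E) →* ↥((MulEquiv.toMonoidHom (groupEquiv D σ)).eqLocus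
      (MonoidHom.id ↥(D.group F))) :=
    ((ι.comp (D.group E).subtype).codRestrict (D.group F)
      fun g => map_group_le D e ⟨_, g.2, rfl⟩).codRestrict _ fun g => Subtype.ext (hfix g.1)
  have hinj : Function.Injective ψ := fun a b h =>
    Subtype.ext (glMap_injective D e (congrArg Subtype.val (congrArg Subtype.val h)))
  have hgen : ChevSubfield.fixedGen (D := D) (σ : F →+* F) ≤ (D.group E).map ι := by
    rw [ChevSubfield.fixedGen, Subgroup.closure_le]
    rintro g ⟨r, t, ht, hg⟩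
    obtain ⟨t₀, rfl⟩ := (he t).1 ht
    by_cases hr : r < D.nroots
    · refine ⟨(glSys hS₀).x r t₀, Subgroup.subset_closure ⟨⟨r, hr⟩, t₀, ?_⟩, Units.ext ?_⟩
      · show (xGL D E r t₀ : Matrix D.Idx D.Idx E) = _
        rw [val_xGL hS₀, ChevalleyDatum.x, dif_pos hr]
      · show (xGL D E r t₀ : Matrix D.Idx D.Idx E).map e = _
        rw [val_xGL hS₀, x_map, hg]
    · refine ⟨1, one_mem _, ?_⟩
      rw [map_one]
      exact (Units.ext (by rw [hg, ChevalleyDatum.x, dif_neg hr, Units.val_one])).symm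
  have htor : (glSys hS).Hbar ⊓ MonoidHom.eqLocus (ChevSubfield.glσ (σ : F →+* F)) (MonoidHom.id _) ≤
      (D.group E).map ι := by
    rintro h ⟨hh, hhfix⟩
    rw [← diagonalSubgroup_eq hS hR, hV.diagonalSubgroup_eq_range] at hh
    obtain ⟨c, rfl⟩ := hh
    have h1 := tHom_injective hV N hN ((tHom_map (σ : F →+* F) c).symm.trans hhfix)
    choose b hb using fun k => (he ((c k : Fˣ) : F)).1
      (congrArg (fun u : Fˣ => (u : F)) (congrFun h1 k))
    have hb0 : ∀ k, b k ≠ 0 := fun k h0 => (c k).ne_zero (by rw [← hb k, h0, map_zero])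
    refine ⟨Chev.tHom D E fun k => Units.mk0 (b k) (hb0 k), ?_, ?_⟩
    · rw [group_eq hS₀]
      refine (glSys hS₀).Nbar_le_Gbar hS₀ hR₀ ((glSys hS₀).Hbar_le_Nbar ?_)
      rw [← diagonalSubgroup_eq hS₀ hR₀, hV.diagonalSubgroup_eq_range]
      exact ⟨_, rfl⟩
    · show Matrix.GeneralLinearGroup.map e _ = _
      rw [tHom_map]
      exact congrArg _ (funext fun k => Units.ext (hb k))
  have hsurj : Function.Surjective ψ := by
    rintro ⟨⟨g, hg⟩, hgfix⟩
    have h1 : ChevSubfield.glσ (σ : F →+* F) g = g := congrArg Subtype.val hgfix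
    obtain ⟨x, hx, hxg⟩ :=
      (sup_le hgen htor) (ChevSubfield.mem_fixed_decomp hS hR hg h1)
    exact ⟨⟨x, hx⟩, Subtype.ext (Subtype.ext hxg)⟩
  exact ⟨(MulEquiv.ofBijective ψ ⟨hinj, hsurj⟩).symm⟩

/-- The statement shared by the three types. -/
theorem fixed_points (D : ChevalleyDatum)
    (hD : D ∈ [chevG2, chevB2, chevD4, chevF4, chevE6, chevE7, chevE8]) (h0 : 0 < D.rank)
    (N : Chev.Snf D) (hN : ∀ m, ∏ j, Nat.gcd m (N.d j) = 1) {F : Type*} [Field F] [Fintype F]
    (φ : MulAut ↥(D.group F)) (hφ : D.IsFieldAut φ) (r : ℕ) (hr : r.Prime) (ho : orderOf φ = r) :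
    ∃ (F₀ : Type) (_ : Field F₀) (_ : Fintype F₀), Fintype.card F = Fintype.card F₀ ^ r ∧
      Nonempty (↥((MulEquiv.toMonoidHom φ).eqLocus (MonoidHom.id ↥(D.group F))) ≃* ↥(D.group F₀)) := by
  obtain ⟨C, hV⟩ := Chev.exists_valid hD
  have hS := Chev.rules_of_mem F hD
  obtain ⟨σ, hσ⟩ := hφ
  obtain rfl : φ = fieldHom D F σ := groupEquiv_eq_of_isFieldAut hσ
  rw [orderOf_injective _ (fieldHom_injective hV hS h0)] at ho
  obtain ⟨p, hpc⟩ := CharP.exists F
  obtain ⟨f, hp, hcard⟩ := FiniteField.card F p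
  haveI := Fact.mk hp
  obtain ⟨hrf, hfix⟩ := AutPSL.fixedField_exponent σ (p := p) (f := f)
    (Nat.card_eq_fintype_card.trans hcard) ho
  have hk : (f : ℕ) / r ≠ 0 :=
    (Nat.div_pos (Nat.le_of_dvd f.pos hrf) hr.pos).ne'
  haveI := Fintype.ofFinite (GaloisField p ((f : ℕ) / r))
  obtain ⟨e, he⟩ := AutPSL.exists_embedding σ (GaloisField p ((f : ℕ) / r))
    ((GaloisField.card p _ hk).trans hfix.symm)
  refine ⟨GaloisField p ((f : ℕ) / r), inferInstance, inferInstance, ?_,
    fixed_iso hV N hN hS (Chev.rules_of_mem _ hD) σ e he⟩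
  rw [hcard, ← Nat.card_eq_fintype_card (α := GaloisField p ((f : ℕ) / r)), GaloisField.card p _ hk,
    ← pow_mul, Nat.div_mul_cancel hrf]

end Cfsg.Agent.Known.ChevFieldFixed
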