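import Mathlib
import Cfsg.Agent.Known.NormalRankTwo
import Cfsg.Agent.PGroup.Frattini
import Cfsg.Agent.Coprime.Action
import Cfsg.Agent.Coprime.Generation
import Cfsg.Agent.OddLocal.NoncyclicAction

/-!
A `p`-group with two generating sets `C`, `D` such that a coprime group is the product of the
centralizers of any `c ∈ C` and any `d ∈ D` acts trivially.
-/

set_option autoImplicit false

namespace Cfsg.Agent.Known

open Finset
open scoped commutatorElement

section Abelian

variable {V : Type*} [CommGroup V] [Finite V]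

/-- The product over the orbit of a cyclic group, as an endomorphism. -/
def orbitProd (p : ℕ) (x : MulAut V) : V →* V where
  toFun v := ∏ i ∈ range p, (x ^ i) v
  map_one' := by simp
  map_mul' v w := by simp [Finset.prod_mul_distrib]

omit [Finite V] in
theorem orbitProd_fixed {p : ℕ} {x : MulAut V} (hx : x ^ p = 1) (v : V) :
    x (orbitProd p x v) = orbitProd p x v :=
  Cfsg.Agent.OddLocal.prod_orbit_fixed x hx v

omit [Finite V] in
theorem orbitProd_of_fixed {p : ℕ} {x : MulAut V} {v : V} (hv : x v = v) :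
    orbitProd p x v = v ^ p := by
  have h : ∀ i, (x ^ i) v = v := fun i => by
    induction i with
    | zero => rfl
    | succ i ih => rw [pow_succ, MulAut.mul_apply, hv, ih]
  show ∏ i ∈ range p, (x ^ i) v = v ^ p
  simp [h]

omit [Finite V] in
theorem mul_orbitProd {p : ℕ} {x y c : MulAut V} (h : c * x = y * c) (v : V) :
    c (orbitProd p x v) = orbitProd p y (c v) := by
  show c (∏ i ∈ range p, (x ^ i) v) = ∏ i ∈ range p, (y ^ i) (c v)
  rw [map_prod]
  refine Finset.prod_congr rfl fun i _ => ?_
  rw [← MulAut.mul_apply, ← MulAut.mul_apply, (show SemiconjBy c x y from h).pow_right i]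

theorem eq_one_of_pow_p {p : ℕ} (hp : p.Prime) (hV : (Nat.card V).Coprime p) {v : V}
    (h : v ^ p = 1) : v = 1 := by
  have h1 := Nat.dvd_gcd (orderOf_dvd_natCard v) (orderOf_dvd_of_pow_eq_one h)
  rw [hV] at h1
  exact orderOf_eq_one_iff.mp (Nat.dvd_one.mp h1)

/-- The fixed points of an automorphism. -/
def fixSub (x : MulAut V) : Subgroup V where
  carrier := {v | x v = v}
  mul_mem' {a b} (ha : x a = a) (hb : x b = b) := show x (a * b) = a * b by rw [map_mul, ha, hb]
  one_mem' := map_one x
  inv_mem' {a} (ha : x a = a) := show x a⁻¹ = a⁻¹ by rw [map_inv, ha]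

theorem trivial_of_irreducible_pairs {p : ℕ} [hp : Fact p.Prime] (hp2 : p ≠ 2)
    (A : Subgroup (MulAut V)) (hA : IsPGroup p A) (hV : (Nat.card V).Coprime p)
    (hirr : ∀ W : Subgroup V, (∀ a ∈ A, ∀ w ∈ W, a w ∈ W) → W = ⊥ ∨ W = ⊤)
    (C D : Set (MulAut V)) (hC : Subgroup.closure C = A) (hD : Subgroup.closure D = A)
    (hdec : ∀ c ∈ C, ∀ d ∈ D, ∀ v : V, ∃ a b : V, c a = a ∧ d b = b ∧ v = a * b) : A = ⊥ := by
  by_contra hA0
  haveI : Finite (MulAut V) := Finite.of_injective (fun f => (f : V → V)) DFunLike.coe_injective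
  have hCA : C ⊆ (A : Set (MulAut V)) := hC ▸ Subgroup.subset_closure
  have hDA : D ⊆ (A : Set (MulAut V)) := hD ▸ Subgroup.subset_closure
  obtain ⟨a₀, ha₀A, ha₀⟩ := (Subgroup.bot_or_exists_ne_one A).resolve_left hA0
  obtain ⟨v₀, hv₀⟩ : ∃ v, a₀ v ≠ v := by
    by_contra h
    push Not at h
    exact ha₀ (MulEquiv.ext h)
  have hVnt : ¬ ∀ v : V, v = 1 := fun h => hv₀ ((h _).trans (h _).symm)
  -- an element centralised by `A` with a non-trivial fixed point is trivial
  have hcentral : ∀ x ∈ A, (∀ a ∈ A, a * x = x * a) → ∀ v, x v = v → v ≠ 1 → x = 1 := by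
    intro x _ hx v hv hv1
    rcases hirr (fixSub x) (fun a ha w (hw : x w = w) => by
        show x (a w) = a w
        rw [← MulAut.mul_apply, ← hx a ha, MulAut.mul_apply, hw]) with h | h
    · exact absurd (show v ∈ fixSub x from hv) (by rw [h, Subgroup.mem_bot]; exact hv1)
    · exact MulEquiv.ext fun w => show x w = w from (h ▸ Subgroup.mem_top w : w ∈ fixSub x)
  by_cases hcyc : IsCyclic A
  · obtain ⟨g, hg⟩ := hcyc.exists_generator
    have hgen : ∀ S : Set (MulAut V), Subgroup.closure S = A →
        ∃ c ∈ S, ∀ a ∈ A, ∀ v, c v = v → a v = v := by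
      intro S hS
      have hSA : S ⊆ (A : Set (MulAut V)) := hS ▸ Subgroup.subset_closure
      obtain ⟨m, hm⟩ : ∃ m, orderOf g = p ^ m := IsPGroup.iff_orderOf.mp hA g
      have hm1 : 1 ≤ m := by
        by_contra h
        have : m = 0 := by omega
        rw [this, pow_zero, orderOf_eq_one_iff] at hm
        obtain ⟨i, hi⟩ := hg ⟨a₀, ha₀A⟩
        exact ha₀ (by simpa [hm] using (congrArg Subtype.val hi).symm)
      by_contra hcon
      push Not at hcon
      have hle : A ≤ (Subgroup.zpowers (g ^ p)).map A.subtype := by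
        conv_lhs => rw [← hS]
        rw [Subgroup.closure_le]
        intro c hc
        obtain ⟨i, hi⟩ := hg ⟨c, hSA hc⟩
        by_cases hpi : (p : ℤ) ∣ i
        · obtain ⟨j, rfl⟩ := hpi
          refine ⟨(g ^ p) ^ j, ⟨j, rfl⟩, ?_⟩
          rw [← zpow_natCast, ← zpow_mul]
          exact congrArg Subtype.val hi
        · exfalso
          obtain ⟨a, ha, v, hv, hne⟩ := hcon c hc
          have hcop : IsCoprime i ((orderOf g : ℕ) : ℤ) := by
            rw [hm, Nat.cast_pow]
            refine IsCoprime.pow_right ?_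
            exact ((Nat.prime_iff_prime_int.mp hp.out).coprime_iff_not_dvd.mpr hpi).symm
          obtain ⟨r, s, hrs⟩ := hcop
          have hg' : g ∈ Subgroup.zpowers (⟨c, hSA hc⟩ : A) := ⟨r, by
            show (⟨c, hSA hc⟩ : A) ^ r = g
            rw [← hi]
            show (g ^ i) ^ r = g
            rw [← zpow_mul, show i * r = 1 - s * (orderOf g : ℕ) by linarith, zpow_sub, zpow_one,
              mul_comm s, zpow_mul, zpow_natCast, pow_orderOf_eq_one, one_zpow, inv_one, mul_one]⟩
          obtain ⟨j, hj⟩ := Subgroup.zpowers_le.mpr hg' (hg ⟨a, ha⟩)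
          have hj' : c ^ j = a := congrArg Subtype.val hj
          refine hne ?_
          rw [← hj']
          have : ∀ n : ℤ, (c ^ n) v = v := fun n => by
            induction n using Int.induction_on with
            | zero => rfl
            | succ n ih => rw [zpow_add_one, MulAut.mul_apply, hv, ih]
            | pred n ih =>
              have hv' : c⁻¹ v = v := by
                conv_lhs => rw [← hv]
                exact c.symm_apply_apply v
              rw [zpow_sub_one, MulAut.mul_apply, hv', ih]
          exact this j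
      obtain ⟨y, ⟨j, rfl⟩, hy⟩ := hle (g : A).2
      have hj : (g ^ p) ^ j = g := Subtype.ext hy
      rw [← zpow_natCast g p, ← zpow_mul] at hj
      have h1 : g ^ ((p : ℤ) * j - 1) = 1 := by rw [zpow_sub, hj, zpow_one, mul_inv_cancel]
      have h2 := orderOf_dvd_iff_zpow_eq_one.mpr h1
      rw [hm] at h2
      have h3 : (p : ℤ) ∣ (p : ℤ) * j - 1 :=
        dvd_trans (by rw [Nat.cast_pow]; exact dvd_pow_self _ (by omega)) h2
      have h4 : (p : ℤ) ∣ 1 := by simpa using dvd_sub (dvd_mul_right (p : ℤ) j) h3
      exact hp.out.one_lt.ne' (Nat.eq_one_of_dvd_one (by exact_mod_cast h4))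
    obtain ⟨c, hc, hcfix⟩ := hgen C hC
    obtain ⟨d, hd, hdfix⟩ := hgen D hD
    obtain ⟨a, b, ha, hb, hab⟩ := hdec c hc d hd v₀
    exact hv₀ (by rw [hab, map_mul, hcfix _ ha₀A a ha, hdfix _ ha₀A b hb])
  · obtain ⟨E, hEn, hEc, hEcomm, hEexp⟩ := exists_normal_elemAb_sq hp2 hA hcyc
    haveI := hEn
    have hEne : E ≠ ⊥ := fun h => by
      rw [h, Subgroup.card_bot] at hEc
      exact (Nat.one_lt_pow two_ne_zero hp.out.one_lt).ne hEc
    have hEZ : E ⊓ Subgroup.center A ≠ ⊥ := Cfsg.Agent.PGroup.inf_center_ne_bot hA E hEne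
    obtain ⟨z, hzm, hz1⟩ := (Subgroup.bot_or_exists_ne_one _).resolve_left hEZ
    have hzE : z ∈ E := hzm.1
    have hzord : orderOf z = p := orderOf_eq_prime (hEexp z hzE) hz1
    obtain ⟨e, heE, hez⟩ : ∃ e ∈ E, e ∉ Subgroup.zpowers z := by
      by_contra h
      push Not at h
      have := Subgroup.card_le_of_le h
      rw [Nat.card_zpowers, hzord, hEc] at this
      nlinarith [hp.out.one_lt]
    set Z : MulAut V := ((z : A) : MulAut V) with hZdef
    set ee : MulAut V := ((e : A) : MulAut V) with heedef
    have hZA : ∀ a ∈ A, a * Z = Z * a := fun a ha =>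
      congrArg Subtype.val (Subgroup.mem_center_iff.mp hzm.2 ⟨a, ha⟩)
    have hZp : Z ^ p = 1 := by rw [hZdef, ← Subgroup.coe_pow, hEexp z hzE]; rfl
    have hep : ee ^ p = 1 := by rw [heedef, ← Subgroup.coe_pow, hEexp e heE]; rfl
    have heZ : Commute ee Z := hZA ee e.2
    let X : ℕ → MulAut V := fun i => ee * Z ^ i
    have hXp : ∀ i, X i ^ p = 1 := fun i => by
      show (ee * Z ^ i) ^ p = 1
      rw [(heZ.pow_right i).mul_pow, hep, ← pow_mul, mul_comm i, pow_mul, hZp, one_pow, one_mul]
    have hZfix : ∀ v, Z v = v → v = 1 := by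
      intro v hv
      by_contra h1
      exact hz1 (Subtype.ext (hcentral Z z.2 hZA v hv h1))
    -- `Z ^ k` fixes only `1` unless `p ∣ k`
    have hZk : ∀ k : ℕ, ¬ p ∣ k → ∀ v, (Z ^ k) v = v → v = 1 := by
      intro k hk v hv
      refine hZfix v ?_
      obtain ⟨r, hr⟩ := Nat.exists_mul_mod_eq_one_of_coprime (n := k) (k := p)
        ((hp.out.coprime_iff_not_dvd.mpr hk).symm) hp.out.one_lt
      have h1 : Z = (Z ^ k) ^ r := by
        rw [← pow_mul, ← Nat.mod_add_div (k * r) p, hr.2, pow_add, pow_one, pow_mul, hZp, one_pow,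
          mul_one]
      rw [h1]
      have : ∀ n : ℕ, ((Z ^ k) ^ n) v = v := fun n => by
        induction n with
        | zero => rfl
        | succ n ih => rw [pow_succ, MulAut.mul_apply, hv, ih]
      exact this r
    have hsum : ∀ v, ∏ i ∈ range p, orbitProd p (X i) v = v ^ p := by
      intro v
      show ∏ i ∈ range p, ∏ k ∈ range p, (X i ^ k) v = v ^ p
      rw [Finset.prod_comm]
      have h0 : ∀ i ∈ range p, (X i ^ 0) v = v := fun _ _ => rfl
      rw [← Finset.mul_prod_erase (range p) _ (Finset.mem_range.mpr hp.out.pos),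
        Finset.prod_congr rfl h0, Finset.prod_const, Finset.card_range,
        Finset.prod_eq_one fun k hk => ?_, mul_one]
      obtain ⟨hk0, hk⟩ := Finset.mem_erase.mp hk
      rw [Finset.mem_range] at hk
      have h2 : ∀ i, (X i ^ k) v = (ee ^ k) (((Z ^ k) ^ i) v) := fun i => by
        show ((ee * Z ^ i) ^ k) v = _
        rw [(heZ.pow_right i).mul_pow, MulAut.mul_apply, ← pow_mul, ← pow_mul, mul_comm i k]
      rw [Finset.prod_congr rfl fun i _ => h2 i, ← map_prod]
      have h3 : (Z ^ k) ^ p = 1 := by rw [← pow_mul, mul_comm, pow_mul, hZp, one_pow]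
      rw [hZk k (fun h => by have := Nat.le_of_dvd (Nat.pos_of_ne_zero hk0) h; omega)
        (∏ i ∈ range p, ((Z ^ k) ^ i) v) (orbitProd_fixed h3 v), map_one]
    -- `e` is not central
    obtain ⟨a₁, ha₁, ha₁e⟩ : ∃ a ∈ A, a * ee ≠ ee * a := by
      by_contra h
      push Not at h
      obtain ⟨i, hi⟩ : ∃ i, ∃ v, orbitProd p (X i) v ≠ 1 := by
        by_contra h'
        push Not at h'
        exact hVnt fun v => eq_one_of_pow_p hp.out hV (by
          rw [← hsum v, Finset.prod_eq_one fun i _ => h' i v])
      obtain ⟨v, hv⟩ := hi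
      have hXA : X i ∈ A := A.mul_mem e.2 (A.pow_mem z.2 i)
      have hXc : ∀ a ∈ A, a * X i = X i * a := fun a ha =>
        ((show Commute a ee from h a ha).mul_right ((show Commute a Z from hZA a ha).pow_right i))
      have h1 := hcentral (X i) hXA hXc _ (orbitProd_fixed (hXp i) v) hv
      refine hez ?_
      rw [show e = (z ^ i)⁻¹ from eq_inv_of_mul_eq_one_left (Subtype.ext h1)]
      exact inv_mem (pow_mem (Subgroup.mem_zpowers z) i)
    have hmoves : ∀ S : Set (MulAut V), Subgroup.closure S = A → ∃ c ∈ S, c * ee ≠ ee * c := by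
      intro S hS
      by_contra h
      push Not at h
      have hle : A ≤ Subgroup.centralizer {ee} := by
        rw [← hS, Subgroup.closure_le]
        exact fun c hc => Subgroup.mem_centralizer_singleton_iff.mpr (h c hc)
      exact ha₁e (Subgroup.mem_centralizer_singleton_iff.mp (hle ha₁))
    have hstep : ∀ c ∈ A, c * ee ≠ ee * c → ∃ a : ℕ, ¬ p ∣ a ∧ ∀ i, c * X i = X (i + a) * c := by
      intro c hc hne
      have hlt : ⁅E, (⊤ : Subgroup A)⁆ < E := Cfsg.Agent.PGroup.commutator_top_lt hA hEne
      haveI : (⁅E, (⊤ : Subgroup A)⁆).Normal := Subgroup.commutator_normal _ _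
      have hcard : Nat.card (⁅E, (⊤ : Subgroup A)⁆ : Subgroup A) ≤ p := by
        obtain ⟨j, hj⟩ := IsPGroup.iff_card.mp (hA.to_subgroup ⁅E, (⊤ : Subgroup A)⁆)
        have hlt' : Nat.card (⁅E, (⊤ : Subgroup A)⁆ : Subgroup A) < Nat.card E := by
          by_contra h'
          exact hlt.ne (Subgroup.eq_of_le_of_card_ge hlt.le (not_lt.mp h'))
        rw [hj, hEc] at hlt'
        rw [hj]
        calc p ^ j ≤ p ^ 1 := Nat.pow_le_pow_right hp.out.pos
              (by have := (Nat.pow_lt_pow_iff_right hp.out.one_lt).mp hlt'; omega)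
          _ = p := pow_one p
      set w : A := ⁅(⟨c, hc⟩ : A), e⁆ with hw
      have hwE : w ∈ ⁅E, (⊤ : Subgroup A)⁆ := by
        rw [Subgroup.commutator_comm]
        exact Subgroup.commutator_mem_commutator (Subgroup.mem_top _) heE
      have hw1 : w ≠ 1 := fun h => hne
        (congrArg Subtype.val (commutatorElement_eq_one_iff_mul_comm.mp h))
      have hwp : orderOf w = p := orderOf_eq_prime (hEexp w (hlt.le hwE)) hw1
      have hwz : w ∈ Subgroup.zpowers z := by
        by_contra hwz
        have hEq : ⁅E, (⊤ : Subgroup A)⁆ = Subgroup.zpowers w := (Subgroup.eq_of_le_of_card_ge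
          (Subgroup.zpowers_le.mpr hwE) (by rw [Nat.card_zpowers, hwp]; exact hcard)).symm
        have hwc : w ∈ Subgroup.center A := by
          refine Cfsg.Agent.PGroup.le_center_of_card_eq hA (N := ⁅E, (⊤ : Subgroup A)⁆) ?_ hwE
          rw [hEq, Nat.card_zpowers, hwp]
        refine hne (congrArg Subtype.val
          (Subgroup.mem_center_iff.mp (?_ : e ∈ Subgroup.center A) (⟨c, hc⟩ : A)))
        have hEle : E ≤ Subgroup.center A := by
          have hle : E ⊓ Subgroup.center A = E := by
            refine Subgroup.eq_of_le_of_card_ge inf_le_left ?_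
            obtain ⟨j, hj⟩ := IsPGroup.iff_card.mp (hA.to_subgroup (E ⊓ Subgroup.center A))
            have hgt : p < Nat.card (E ⊓ Subgroup.center A : Subgroup A) := by
              have hle2 : Subgroup.zpowers z ≤ E ⊓ Subgroup.center A := Subgroup.zpowers_le.mpr hzm
              have hlt2 : Subgroup.zpowers z < E ⊓ Subgroup.center A :=
                lt_of_le_of_ne hle2 fun h => hwz (h ▸ ⟨hlt.le hwE, hwc⟩)
              rw [← hzord, ← Nat.card_zpowers]
              by_contra h'
              exact hlt2.ne (Subgroup.eq_of_le_of_card_ge hle2 (not_lt.mp h'))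
            rw [hj] at hgt ⊢
            rw [hEc]
            refine Nat.pow_le_pow_right hp.out.pos ?_
            by_contra h'
            have : p ^ j ≤ p ^ 1 := Nat.pow_le_pow_right hp.out.pos (by omega)
            rw [pow_one] at this
            omega
          exact hle ▸ inf_le_right
        exact hEle heE
      obtain ⟨a, ha⟩ : ∃ a : ℕ, z ^ a = w := mem_powers_iff_mem_zpowers.mpr hwz
      refine ⟨a, fun hd => hw1 ?_, fun i => ?_⟩
      · rw [← ha]
        exact orderOf_dvd_iff_pow_eq_one.mp (hzord ▸ hd)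
      · have h1 : ⟨c, hc⟩ * e = z ^ a * (e * ⟨c, hc⟩) := by
          rw [ha, hw, commutatorElement_def]; group
        have h1' : c * ee = Z ^ a * (ee * c) := by simpa using congrArg Subtype.val h1
        show c * (ee * Z ^ i) = ee * Z ^ (i + a) * c
        have hzc : ∀ n, c * Z ^ n = Z ^ n * c := fun n =>
          (show Commute c Z from hZA c hc).pow_right n
        rw [← mul_assoc, h1', mul_assoc, mul_assoc, hzc, pow_add, ← mul_assoc (Z ^ a),
          (heZ.pow_right a).symm.eq, mul_assoc, ← mul_assoc (Z ^ a), ← pow_add, ← pow_add,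
          Nat.add_comm a i, mul_assoc]
    have hper : ∀ i, X (i + p) = X i := fun i => by
      show ee * Z ^ (i + p) = ee * Z ^ i
      rw [pow_add, hZp, mul_one]
    have hmod : ∀ i, X i = X (i % p) := fun i => by
      show ee * Z ^ i = ee * Z ^ (i % p)
      conv_lhs => rw [← Nat.mod_add_div i p, pow_add, pow_mul, hZp, one_pow, mul_one]
    obtain ⟨c, hc, hce⟩ := hmoves C hC
    obtain ⟨d, hd, hde⟩ := hmoves D hD
    obtain ⟨a, hpa, hca⟩ := hstep c (hCA hc) hce
    obtain ⟨b, hpb, hdb⟩ := hstep d (hDA hd) hde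
    let V' : ℕ → Subgroup V := fun i => fixSub (X i)
    -- the fixed points of `c` embed in `V' 0`
    have hemb : ∀ c' : MulAut V, ∀ s : ℕ, ¬ p ∣ s → (∀ i, c' * X i = X (i + s) * c') →
        Nat.card (fixSub c') ≤ Nat.card (V' 0) := by
      intro c' s hs hcs
      let f : fixSub c' →* V' 0 := ((orbitProd p (X 0)).comp (fixSub c').subtype).codRestrict _
        fun v => orbitProd_fixed (hXp 0) _
      refine Nat.card_le_card_of_injective f ((injective_iff_map_eq_one f).mpr fun v hv => ?_)
      have h0 : orbitProd p (X 0) (v : V) = 1 := congrArg Subtype.val hv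
      have hall : ∀ n : ℕ, orbitProd p (X (n * s)) (v : V) = 1 := by
        intro n
        induction n with
        | zero => rwa [Nat.zero_mul]
        | succ n ih =>
          have h := mul_orbitProd (p := p) (hcs (n * s)) (v : V)
          rw [ih, map_one, show c' (v : V) = v from v.2] at h
          rw [Nat.succ_mul]
          exact h.symm
      refine Subtype.ext (eq_one_of_pow_p hp.out hV ?_)
      rw [← hsum (v : V)]
      refine Finset.prod_eq_one fun i hi => ?_
      obtain ⟨r, hr⟩ := Nat.exists_mul_mod_eq_one_of_coprime (n := s) (k := p)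
        ((hp.out.coprime_iff_not_dvd.mpr hs).symm) hp.out.one_lt
      rw [hmod i, show i % p = (i * r * s) % p by
        rw [mul_assoc, Nat.mul_mod i, mul_comm r s, hr.2, mul_one, Nat.mod_mod], ← hmod]
      exact hall _
    have hcard : ∀ i, Nat.card (V' 0) ≤ Nat.card (V' i) := by
      intro i
      obtain ⟨r, hr⟩ := Nat.exists_mul_mod_eq_one_of_coprime (n := a) (k := p)
        ((hp.out.coprime_iff_not_dvd.mpr hpa).symm) hp.out.one_lt
      have hstep' : ∀ n, Nat.card (V' 0) ≤ Nat.card (V' (n * a)) := by
        intro n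
        induction n with
        | zero => simp
        | succ n ih =>
          refine ih.trans (Nat.card_le_card_of_injective
            (fun v : V' (n * a) => (⟨c (v : V), ?_⟩ : V' ((n + 1) * a))) fun x y h =>
              Subtype.ext (c.injective (congrArg Subtype.val h)))
          show X ((n + 1) * a) (c (v : V)) = c (v : V)
          rw [Nat.succ_mul, ← MulAut.mul_apply, ← hca, MulAut.mul_apply, show X (n * a) (v : V) = v from v.2]
      have := hstep' (i * r)
      rwa [show V' (i * r * a) = V' i from congrArg fixSub (by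
        rw [hmod, hmod i, mul_assoc, Nat.mul_mod i, mul_comm r a, hr.2, mul_one, Nat.mod_mod])] at this
    -- three independent pieces
    have hcoord : ∀ i j : ℕ, i ≤ 2 → j ≤ 2 → i ≠ j → ∀ w : V, X i w = w → orbitProd p (X j) w = 1 := by
      intro i j hi hj hij w hw
      have h1 : X j (orbitProd p (X j) w) = orbitProd p (X j) w := orbitProd_fixed (hXp j) w
      have h2 : X i (orbitProd p (X j) w) = orbitProd p (X j) w := by
        have hcomm : X i * X j = X j * X i := by
          show Commute (ee * Z ^ i) (ee * Z ^ j)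
          exact (((Commute.refl ee).mul_right (heZ.pow_right j)).mul_left
            ((heZ.symm.pow_left i).mul_right ((Commute.refl Z).pow_pow i j)))
        rw [mul_orbitProd hcomm, hw]
      set u := orbitProd p (X j) w
      have hp3 : 3 ≤ p := by have := hp.out.two_le; omega
      have key : ∀ l k : ℕ, l ≤ 2 → k ≤ 2 → l < k → X k u = u → X l u = u → u = 1 := by
        intro l k hl hk hlk e1 e2
        refine hZk (k - l) (fun hd => by have := Nat.le_of_dvd (by omega) hd; omega) u ?_
        have h' : X k = X l * Z ^ (k - l) := by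
          show ee * Z ^ k = ee * Z ^ l * Z ^ (k - l)
          rw [mul_assoc, ← pow_add, Nat.add_sub_cancel' hlk.le]
        rw [h', MulAut.mul_apply] at e1
        exact (X l).injective (e1.trans e2.symm)
      rcases Nat.lt_or_gt_of_ne hij with h | h
      · exact key i j hi hj h h1 h2
      · exact key j i hj hi h h2 h1
    let Φ : V' 0 × V' 1 × V' 2 →* V :=
      { toFun := fun w => (w.1 : V) * w.2.1 * w.2.2
        map_one' := by simp
        map_mul' := fun x y => by simp [mul_mul_mul_comm, mul_assoc, mul_left_comm, mul_comm] }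
    have hΦ : Function.Injective Φ := by
      refine (injective_iff_map_eq_one Φ).mpr ?_
      rintro ⟨⟨w0, h0⟩, ⟨w1, h1⟩, ⟨w2, h2⟩⟩ hw
      have hw' : w0 * w1 * w2 = 1 := hw
      have g : ∀ j, orbitProd p (X j) w0 * orbitProd p (X j) w1 * orbitProd p (X j) w2 = 1 := fun j => by
        rw [← map_mul, ← map_mul, hw', map_one]
      have g0 := g 0; have g1 := g 1; have g2 := g 2
      rw [orbitProd_of_fixed h0, hcoord 1 0 (by norm_num) (by norm_num) (by norm_num) w1 h1,
        hcoord 2 0 (by norm_num) (by norm_num) (by norm_num) w2 h2, mul_one, mul_one] at g0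
      rw [orbitProd_of_fixed h1, hcoord 0 1 (by norm_num) (by norm_num) (by norm_num) w0 h0,
        hcoord 2 1 (by norm_num) (by norm_num) (by norm_num) w2 h2, mul_one, one_mul] at g1
      rw [orbitProd_of_fixed h2, hcoord 0 2 (by norm_num) (by norm_num) (by norm_num) w0 h0,
        hcoord 1 2 (by norm_num) (by norm_num) (by norm_num) w1 h1, one_mul, one_mul] at g2
      simp only [Prod.ext_iff, Prod.fst_one, Prod.snd_one, Subtype.ext_iff, Subgroup.coe_one]
      exact ⟨eq_one_of_pow_p hp.out hV g0, eq_one_of_pow_p hp.out hV g1, eq_one_of_pow_p hp.out hV g2⟩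
    have hbig : Nat.card (V' 0) ^ 3 ≤ Nat.card V := by
      refine le_trans ?_ (Nat.card_le_card_of_injective Φ hΦ)
      rw [Nat.card_prod, Nat.card_prod, show (3 : ℕ) = 1 + (1 + 1) from rfl, pow_add, pow_add, pow_one]
      exact Nat.mul_le_mul le_rfl (Nat.mul_le_mul (hcard 1) (hcard 2))
    have hsmall : Nat.card V ≤ Nat.card (V' 0) * Nat.card (V' 0) := by
      refine le_trans (Nat.card_le_card_of_surjective
        (fun w : fixSub c × fixSub d => (w.1 : V) * w.2) fun v => ?_) ?_
      · obtain ⟨x, y, hx, hy, hxy⟩ := hdec c hc d hd v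
        exact ⟨(⟨x, hx⟩, ⟨y, hy⟩), hxy.symm⟩
      · rw [Nat.card_prod]
        exact Nat.mul_le_mul (hemb c a hpa hca) (hemb d b hpb hdb)
    have h01 : Nat.card (V' 0) ≤ 1 := by
      by_contra h
      have := hbig.trans hsmall
      rw [pow_three] at this
      have := Nat.le_of_mul_le_mul_left this (by omega)
      nlinarith
    have hV1 : Nat.card V ≤ 1 := hsmall.trans (by nlinarith)
    haveI := Finite.card_le_one_iff_subsingleton.mp hV1
    exact hVnt fun v => Subsingleton.elim _ _

end Abelian

/-- Thompson-type triviality of a coprime action from decompositions by pairs of generators. -/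
theorem centralizes_of_pairs {G : Type*} [Group G] [Finite G] {p : ℕ} [hp : Fact p.Prime]
    (hp2 : p ≠ 2) (P : Subgroup G) (hP : IsPGroup p P) (C D : Set G)
    (hC : Subgroup.closure C = P) (hD : Subgroup.closure D = P) (N : Subgroup G)
    (hPN : P ≤ Subgroup.normalizer (N : Set G)) (hN : (Nat.card N).Coprime p)
    (h : ∀ W : Subgroup G, W ≤ N → P ≤ Subgroup.normalizer (W : Set G) → ∀ x ∈ W, ∀ c ∈ C, ∀ d ∈ D,
      ∃ a ∈ W, ∃ b ∈ W, Commute a c ∧ Commute b d ∧ x = b * a) :
    P ≤ Subgroup.centralizer (N : Set G) := by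
  induction hn : Nat.card N using Nat.strong_induction_on generalizing N with
  | _ n ih =>
    subst hn
    have hsolP : Group.IsSolvable P := by
      haveI := hP.isNilpotent
      infer_instance
    obtain ⟨j, hj⟩ := IsPGroup.iff_card.mp hP
    have hcop : ∀ W : Subgroup G, W ≤ N → (Nat.card P).Coprime (Nat.card W) := fun W hW => by
      rw [hj]
      exact Nat.Coprime.pow_left _ (hN.coprime_dvd_left (Subgroup.card_dvd_of_le hW)).symm
    have hsub : ∀ W : Subgroup G, W < N → P ≤ Subgroup.normalizer (W : Set G) →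
        P ≤ Subgroup.centralizer (W : Set G) := fun W hW hPW =>
      ih _ (lt_of_le_of_ne (Subgroup.card_le_of_le hW.le) fun he =>
        hW.ne (Subgroup.eq_of_le_of_card_ge hW.le he.ge)) W hPW
        (hN.coprime_dvd_left (Subgroup.card_dvd_of_le hW.le))
        (fun W' hW' => h W' (hW'.trans hW.le)) rfl
    by_cases hq : ∃ q, q.Prime ∧ IsPGroup q N
    swap
    · -- `N` is generated by invariant Sylow subgroups
      let M : Subgroup G := N ⊓ Subgroup.centralizer (P : Set G)
      suffices hM : N ≤ M from Subgroup.le_centralizer_iff.mp (hM.trans inf_le_right)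
      have hMN : M ≤ N := inf_le_left
      have hdvd : Nat.card N ∣ Nat.card M := by
        refine (Nat.dvd_iff_prime_pow_dvd_dvd _ _).mpr fun q k hq' hqk => ?_
        haveI := Fact.mk hq'
        obtain ⟨Q, hQ⟩ := Cfsg.Agent.Coprime.exists_invariant_sylow q hPN (hcop N le_rfl) (.inl hsolP)
        have hQN : (Q : Subgroup N).map N.subtype ≤ N := Subgroup.map_subtype_le _
        have hQlt : (Q : Subgroup N).map N.subtype < N := lt_of_le_of_ne hQN fun he =>
          hq ⟨q, hq', he ▸ Q.2.map _⟩
        have hQM : (Q : Subgroup N).map N.subtype ≤ M :=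
          le_inf hQN (Subgroup.le_centralizer_iff.mp (hsub _ hQlt hQ))
        refine dvd_trans ?_ (Subgroup.card_dvd_of_le hQM)
        rw [Cfsg.Agent.Coprime.card_sylow_map]
        exact pow_dvd_pow q ((hq'.pow_dvd_iff_le_factorization Nat.card_pos.ne').mp hqk)
      rw [← Subgroup.eq_of_le_of_card_ge hMN (Nat.le_of_dvd Nat.card_pos hdvd)]
    obtain ⟨q, hqp, hqN⟩ := hq
    haveI := Fact.mk hqp
    haveI := hqN.isNilpotent
    set Φ : Subgroup N := frattini N
    haveI hΦn : Φ.Normal := inferInstance
    rcases eq_or_ne N ⊥ with hN0 | hN0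
    · subst hN0
      intro x _
      exact Subgroup.mem_centralizer_iff.mpr fun y hy => by
        rw [Subgroup.mem_bot.mp hy]; simp
    -- the action on `V = N / Φ`
    let toN : P →* MulAut N :=
      N.normalizerMonoidHom.comp (Subgroup.inclusion hPN)
    have hΦinv : ∀ g : P, Φ.map (toN g).toMonoidHom = Φ := fun g =>
      Subgroup.characteristic_iff_map_eq.mp inferInstance (toN g)
    let toV : P →* MulAut (N ⧸ Φ) :=
      { toFun := fun g => QuotientGroup.congr Φ Φ (toN g) (hΦinv g)
        map_one' := MulEquiv.ext fun v => by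
          induction v using QuotientGroup.induction_on with
          | _ x =>
            show QuotientGroup.mk (toN 1 x) = QuotientGroup.mk x
            rw [map_one]; rfl
        map_mul' := fun g g' => MulEquiv.ext fun v => by
          induction v using QuotientGroup.induction_on with
          | _ x =>
            show QuotientGroup.mk (toN (g * g') x) = QuotientGroup.mk (toN g (toN g' x))
            rw [map_mul]; rfl }
    have hcommV : ∀ a b : N ⧸ Φ, a * b = b * a := by
      intro a b
      induction a using QuotientGroup.induction_on with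
      | _ x =>
        induction b using QuotientGroup.induction_on with
        | _ y =>
          rw [← QuotientGroup.mk_mul, ← QuotientGroup.mk_mul, QuotientGroup.eq]
          have := Cfsg.Agent.PGroup.commutator_le_frattini (p := q) hqN
            (Subgroup.commutator_mem_commutator (Subgroup.mem_top y⁻¹) (Subgroup.mem_top x⁻¹))
          simpa [commutatorElement_def, mul_assoc] using this
    letI : CommGroup (N ⧸ Φ) := { (inferInstance : Group (N ⧸ Φ)) with mul_comm := hcommV }
    suffices htriv : toV.range = ⊥ by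
      refine Cfsg.Agent.Coprime.le_centralizer_of_frattini hPN ?_ ?_
      · exact (hcop N le_rfl).coprime_dvd_right (Subgroup.card_subgroup_dvd_card _)
      · intro a ha k hk
        have h1 : toV ⟨a, ha⟩ = 1 := by
          rw [← Subgroup.mem_bot, ← htriv]; exact ⟨_, rfl⟩
        have h2 : (QuotientGroup.mk (toN ⟨a, ha⟩ ⟨k, hk⟩) : N ⧸ Φ) = QuotientGroup.mk ⟨k, hk⟩ :=
          congrArg (fun f : MulAut (N ⧸ Φ) => f (QuotientGroup.mk ⟨k, hk⟩)) h1
        rw [eq_comm, QuotientGroup.eq] at h2
        refine ⟨_, h2, ?_⟩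
        show k⁻¹ * (a * k * a⁻¹) = k⁻¹ * a * k * a⁻¹
        group
    have hcopV : (Nat.card (N ⧸ Φ)).Coprime p :=
      hN.coprime_dvd_left (Subgroup.card_quotient_dvd_card Φ)
    by_contra hne
    have hVnt : ∃ g : P, ∃ v, toV g v ≠ v := by
      by_contra hc
      push Not at hc
      refine hne (le_bot_iff.mp ?_)
      rintro _ ⟨g, rfl⟩
      exact Subgroup.mem_bot.mpr (MulEquiv.ext fun v => hc g v)
    -- proper invariant subgroups of `V` are fixed
    have hfix : ∀ W : Subgroup (N ⧸ Φ), (∀ g : P, ∀ v ∈ W, toV g v ∈ W) → W ≠ ⊤ →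
        ∀ g : P, ∀ v ∈ W, toV g v = v := by
      intro W hW hWt g v hv
      set Wh : Subgroup G := (W.comap (QuotientGroup.mk' Φ)).map N.subtype with hWh
      have hWlt : Wh < N := by
        refine lt_of_le_of_ne (Subgroup.map_subtype_le _) fun he => hWt ?_
        refine (Subgroup.eq_top_iff' _).mpr fun u => ?_
        induction u using QuotientGroup.induction_on with
        | _ x =>
          obtain ⟨y, hy, hyx⟩ : (x : G) ∈ Wh := by rw [he]; exact x.2
          rw [← Subtype.ext hyx]
          exact hy
      have hWinv : ∀ (g : P) (x : N), x ∈ W.comap (QuotientGroup.mk' Φ) →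
          toN g x ∈ W.comap (QuotientGroup.mk' Φ) := fun g x hx => hW g _ hx
      have hWn : P ≤ Subgroup.normalizer (Wh : Set G) := by
        intro a ha
        rw [Subgroup.mem_normalizer_iff]
        intro x
        constructor
        · rintro ⟨y, hy, rfl⟩
          exact ⟨toN ⟨a, ha⟩ y, hWinv _ y hy, rfl⟩
        · rintro ⟨y, hy, hyx⟩
          refine ⟨toN ⟨a, ha⟩⁻¹ y, hWinv _ y hy, ?_⟩
          show a⁻¹ * (y : G) * a⁻¹⁻¹ = x
          rw [show (y : G) = a * x * a⁻¹ from hyx]
          group
      induction v using QuotientGroup.induction_on with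
      | _ x =>
        have hcom := Subgroup.mem_centralizer_iff.mp (hsub Wh hWlt hWn g.2) (x : G) ⟨x, hv, rfl⟩
        show (QuotientGroup.mk (toN g x) : N ⧸ Φ) = QuotientGroup.mk x
        congr 1
        refine Subtype.ext ?_
        show (g : G) * (x : G) * (g : G)⁻¹ = x
        rw [← hcom]; group
    haveI : Fintype P := Fintype.ofFinite P
    let μ : (N ⧸ Φ) →* (N ⧸ Φ) :=
      { toFun := fun v => ∏ g : P, toV g v
        map_one' := by simp
        map_mul' := fun v w => by simp [Finset.prod_mul_distrib] }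
    have hμ : ∀ (g : P) v, μ (toV g v) = μ v := by
      intro g v
      show ∏ g' : P, toV g' (toV g v) = ∏ g' : P, toV g' v
      simp only [← MulAut.mul_apply, ← map_mul]
      exact Fintype.prod_equiv (Equiv.mulRight g) _ _ fun _ => rfl
    let B : Subgroup (N ⧸ Φ) := Subgroup.closure {x | ∃ (g : P) (v : N ⧸ Φ), x = toV g v / v}
    have hBinv : ∀ g : P, ∀ v ∈ B, toV g v ∈ B := by
      intro g v hv
      have hmem : toV g v / v ∈ B := Subgroup.subset_closure ⟨g, v, rfl⟩
      simpa using B.mul_mem hmem hv
    have hBtop : B = ⊤ := by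
      by_contra hB
      obtain ⟨g, v, hgv⟩ := hVnt
      have hmem : toV g v / v ∈ B := Subgroup.subset_closure ⟨g, v, rfl⟩
      have h1 : μ (toV g v / v) = (toV g v / v) ^ Nat.card P := by
        show ∏ g' : P, toV g' _ = _
        rw [Finset.prod_congr rfl fun g' _ => hfix B hBinv hB g' _ hmem, Finset.prod_const,
          Finset.card_univ, Nat.card_eq_fintype_card]
      have h2 : μ (toV g v / v) = 1 := by rw [map_div, hμ, div_self']
      rw [h2] at h1
      refine hgv (div_eq_one.mp ?_)
      rw [← orderOf_eq_one_iff]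
      refine Nat.dvd_one.mp ?_
      have hc : (Nat.card (N ⧸ Φ)).Coprime (Nat.card P) := by
        rw [hj]; exact hcopV.pow_right _
      exact hc ▸ Nat.dvd_gcd (orderOf_dvd_natCard _) (orderOf_dvd_of_pow_eq_one h1.symm)
    have hμ1 : ∀ v, μ v = 1 := by
      intro v
      have : B ≤ μ.ker := by
        rw [Subgroup.closure_le]
        rintro _ ⟨g, w, rfl⟩
        show μ (toV g w / w) = 1
        rw [map_div, hμ, div_self']
      exact this (hBtop ▸ Subgroup.mem_top v)
    refine hne (trivial_of_irreducible_pairs hp2 toV.range ?_ hcopV ?_ (toV '' {x : P | (x : G) ∈ C})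
      (toV '' {x : P | (x : G) ∈ D}) ?_ ?_ ?_)
    · exact hP.of_surjective toV.rangeRestrict toV.rangeRestrict_surjective
    · intro W hW
      by_cases hWt : W = ⊤
      · exact .inr hWt
      refine .inl ((Subgroup.eq_bot_iff_forall _).mpr fun v hv => ?_)
      have hWi : ∀ g : P, ∀ u ∈ W, toV g u ∈ W := fun g => hW _ ⟨g, rfl⟩
      have h1 : μ v = v ^ Nat.card P := by
        show ∏ g' : P, toV g' v = _
        rw [Finset.prod_congr rfl fun g' _ => hfix W hWi hWt g' v hv, Finset.prod_const,
          Finset.card_univ, Nat.card_eq_fintype_card]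
      rw [hμ1] at h1
      rw [← orderOf_eq_one_iff]
      refine Nat.dvd_one.mp ?_
      have hc : (Nat.card (N ⧸ Φ)).Coprime (Nat.card P) := by rw [hj]; exact hcopV.pow_right _
      exact hc ▸ Nat.dvd_gcd (orderOf_dvd_natCard _) (orderOf_dvd_of_pow_eq_one h1.symm)
    · rw [← MonoidHom.map_closure, MonoidHom.range_eq_map]
      congr 1
      refine (Subgroup.map_injective (Subgroup.subtype_injective P)) ?_
      rw [MonoidHom.map_closure, ← MonoidHom.range_eq_map, Subgroup.range_subtype, ← hC]
      congr 1
      ext x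
      constructor
      · rintro ⟨y, hy, rfl⟩; exact hy
      · intro hx; exact ⟨⟨x, hC ▸ Subgroup.subset_closure hx⟩, hx, rfl⟩
    · rw [← MonoidHom.map_closure, MonoidHom.range_eq_map]
      congr 1
      refine (Subgroup.map_injective (Subgroup.subtype_injective P)) ?_
      rw [MonoidHom.map_closure, ← MonoidHom.range_eq_map, Subgroup.range_subtype, ← hD]
      congr 1
      ext x
      constructor
      · rintro ⟨y, hy, rfl⟩; exact hy
      · intro hx; exact ⟨⟨x, hD ▸ Subgroup.subset_closure hx⟩, hx, rfl⟩
    · rintro _ ⟨c, hc, rfl⟩ _ ⟨d, hd, rfl⟩ v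
      induction v using QuotientGroup.induction_on with
      | _ x =>
        obtain ⟨a, ha, b, hb, hac, hbd, hx⟩ := h N le_rfl hPN x x.2 _ hc _ hd
        refine ⟨QuotientGroup.mk ⟨a, ha⟩, QuotientGroup.mk ⟨b, hb⟩, ?_, ?_, ?_⟩
        · show (QuotientGroup.mk (toN c ⟨a, ha⟩) : N ⧸ Φ) = _
          congr 1
          refine Subtype.ext ?_
          show (c : G) * a * (c : G)⁻¹ = a
          rw [← hac.eq]; group
        · show (QuotientGroup.mk (toN d ⟨b, hb⟩) : N ⧸ Φ) = _
          congr 1
          refine Subtype.ext ?_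
          show (d : G) * b * (d : G)⁻¹ = b
          rw [← hbd.eq]; group
        · rw [hcommV, ← QuotientGroup.mk_mul]
          congr 1
          exact Subtype.ext hx

end Cfsg.Agent.Known
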