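import Mathlib
import Cfsg.Prelude.Def_HallClasses

/-!
Elementary criteria for pronormality.
-/

set_option autoImplicit false

namespace Cfsg.Agent.Known

variable {G : Type*} [Group G]

theorem map_conj_mul (H : Subgroup G) (a b : G) :
    (H.map (MulAut.conj b).toMonoidHom).map (MulAut.conj a).toMonoidHom
      = H.map (MulAut.conj (a * b)).toMonoidHom := by
  rw [Subgroup.map_map]
  congr 1
  ext x
  simp [mul_assoc]

theorem map_conj_eq_self_of_mem {H : Subgroup G} {h : G} (hh : h ∈ H) :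
    H.map (MulAut.conj h).toMonoidHom = H := by
  ext x
  simp only [Subgroup.mem_map, MulEquiv.coe_toMonoidHom, MulAut.conj_apply]
  constructor
  · rintro ⟨y, hy, rfl⟩
    exact H.mul_mem (H.mul_mem hh hy) (H.inv_mem hh)
  · intro hx
    exact ⟨h⁻¹ * x * h, H.mul_mem (H.mul_mem (H.inv_mem hh) hx) hh, by group⟩

/-- Two conjugates of a Sylow subgroup lying in a subgroup are conjugate in that subgroup. -/
theorem exists_mem_smul_sylow_eq [Finite G] {p : ℕ} [Fact p.Prime] (P : Sylow p G) (g : G)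
    (K : Subgroup G) (hP : (P : Subgroup G) ≤ K) (hgP : ((g • P : Sylow p G) : Subgroup G) ≤ K) :
    ∃ k ∈ K, k • P = g • P := by
  obtain ⟨k, hk⟩ := MulAction.exists_smul_eq K (Sylow.subtype P hP) (Sylow.subtype (g • P) hgP)
  refine ⟨k, k.2, ?_⟩
  rw [Sylow.smul_subtype] at hk
  exact Sylow.subtype_injective hk

/-- A subgroup containing the normalizer of a Sylow subgroup is pronormal. -/
theorem isPronormal_of_sylow_normalizer_le [Finite G] {p : ℕ} [Fact p.Prime] (P : Sylow p G)
    (H : Subgroup G) (hPH : (P : Subgroup G) ≤ H)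
    (hN : Subgroup.normalizer ((P : Subgroup G) : Set G) ≤ H) : Cfsg.IsPronormal H := by
  intro g
  set K := H ⊔ H.map (MulAut.conj g).toMonoidHom with hK
  have hgPK : ((g • P : Sylow p G) : Subgroup G) ≤ K :=
    (by rw [Sylow.coe_subgroup_smul]; exact le_trans (Subgroup.map_mono hPH) le_sup_right)
  obtain ⟨k, hkK, hk⟩ := exists_mem_smul_sylow_eq P g K (hPH.trans le_sup_left) hgPK
  have hn : k⁻¹ * g ∈ H := by
    refine hN (Sylow.smul_eq_iff_mem_normalizer.mp ?_)
    rw [mul_smul, ← hk, inv_smul_smul]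
  refine ⟨k, hkK, ?_⟩
  calc H.map (MulAut.conj g).toMonoidHom
      = (H.map (MulAut.conj (k⁻¹ * g)).toMonoidHom).map (MulAut.conj k).toMonoidHom := by
        rw [map_conj_mul]; simp
    _ = _ := by rw [map_conj_eq_self_of_mem hn]

/-- Sylow subgroups are pronormal. -/
theorem isPronormal_sylow [Finite G] {p : ℕ} [Fact p.Prime] (P : Sylow p G) :
    Cfsg.IsPronormal (P : Subgroup G) := by
  intro g
  have hle : ((g • P : Sylow p G) : Subgroup G) ≤
      (P : Subgroup G) ⊔ (P : Subgroup G).map (MulAut.conj g).toMonoidHom := by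
    rw [Sylow.coe_subgroup_smul]
    exact le_sup_right (a := (P : Subgroup G))
  obtain ⟨k, hkK, hk⟩ := exists_mem_smul_sylow_eq P g _ le_sup_left hle
  refine ⟨k, hkK, ?_⟩
  have h1 := congrArg Sylow.toSubgroup hk
  rw [Sylow.coe_subgroup_smul, Sylow.coe_subgroup_smul] at h1
  exact h1.symm

/-- A maximal subgroup is pronormal. -/
theorem isPronormal_of_isCoatom {H : Subgroup G} (hH : IsCoatom H) : Cfsg.IsPronormal H := by
  intro g
  rcases eq_or_lt_of_le (le_sup_left : H ≤ H ⊔ H.map (MulAut.conj g).toMonoidHom) with h | h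
  · have hle : H.map (MulAut.conj g).toMonoidHom ≤ H := le_sup_right.trans h.ge
    refine ⟨1, Subgroup.one_mem _, ?_⟩
    rw [map_conj_eq_self_of_mem H.one_mem]
    rcases eq_or_lt_of_le hle with h' | h'
    · exact h'
    · exfalso
      have hH' : IsCoatom (H.map (MulAut.conj g).toMonoidHom) :=
        ((MulAut.conj g).mapSubgroup.isCoatom_iff H).mpr hH
      exact hH.1 (hH'.2 H h')
  · exact ⟨g, by rw [hH.2 _ h]; trivial, rfl⟩

theorem isPronormal_top : Cfsg.IsPronormal (⊤ : Subgroup G) :=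
  fun g => ⟨g, Subgroup.mem_sup_left trivial, rfl⟩

end Cfsg.Agent.Known
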