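import Cfsg.Agent.Known.SU3Plane
import Cfsg.Agent.S0780
import Cfsg.Prelude.Def_ClassicalGeometry

/-!
Passing from the antidiagonal form to the standard form of `SU 3 F q`.
-/

set_option autoImplicit false
set_option maxHeartbeats 1000000

namespace Cfsg.Agent.Known.SU3

open Matrix

variable {F : Type*} [Field F]

/-- The standing data: `φ` is `x ↦ x ^ q` on a field of order `q ^ 2`. -/
structure Frob (φ : F →+* F) (q : ℕ) : Prop where
  hq : 1 < q
  hF : Classical.U.SqField F q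
  hφ : ∀ x, φ x = x ^ q

theorem Frob.invol {φ : F →+* F} {q : ℕ} (h : Frob φ q) (x : F) : φ (φ x) = x := by
  rw [h.hφ, h.hφ, h.hF.pow_pow]

theorem exists_frob [Fintype F] {q : ℕ} (hF : Fintype.card F = q ^ 2) : ∃ φ : F →+* F, Frob φ q := by
  have hS := Classical.U.sqField_of_fintype hF
  obtain ⟨p, k, hp, hc, rfl⟩ := hS.exists_char
  haveI := hc
  haveI : Fact p.Prime := ⟨hp⟩
  exact ⟨iterateFrobenius F p k, hS.one_lt, hS, fun x => iterateFrobenius_def p k x⟩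

variable {φ : F →+* F} {q : ℕ}

theorem Frob.card_F0 (h : Frob φ q) : Nat.card (F0 φ) = q := by
  classical
  haveI : Finite F := h.hF.1
  haveI : Fintype F := Fintype.ofFinite F
  have h1 : 1 < q := h.hq
  have e : ∀ x : F, x ∈ F0 φ ↔ x = 0 ∨ x ^ (q - 1) = 1 := by
    intro x
    rw [mem_F0, h.hφ]
    by_cases hx : x = 0
    · simp [hx, zero_pow (show q ≠ 0 by omega)]
    · simp [hx, h.hF.fixed_iff hx]
  have h0 : ∀ x : F, x ^ (q - 1) = 1 → x ≠ 0 := fun x hx e0 => by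
    rw [e0, zero_pow (by omega)] at hx; exact zero_ne_one hx
  have hc : Nat.card (F0 φ) = (insert (0 : F) (Finset.univ.filter fun x : F => x ^ (q - 1) = 1)).card := by
    rw [Nat.card_eq_fintype_card]
    refine Fintype.card_of_subtype _ fun x => ?_
    simp [e]
  rw [hc, Finset.card_insert_of_notMem (by intro m; exact h0 0 (Finset.mem_filter.1 m).2 rfl)]
  have := h.hF.card_fixed_units
  rw [Nat.card_eq_fintype_card, Fintype.card_subtype] at this
  omega

/-- Upper unipotent element. -/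
def upU (φ : F →+* F) (a b : F) : SpecialLinearGroup (Fin 3) F :=
  ⟨!![1, a, b; 0, 1, -φ a; 0, 0, 1], by simp [det_fin_three]⟩

/-- Lower unipotent element. -/
def loU (φ : F →+* F) (a b : F) : SpecialLinearGroup (Fin 3) F :=
  ⟨!![1, 0, 0; a, 1, 0; b, -φ a, 1], by simp [det_fin_three]⟩

theorem val_upU (a b : F) : (upU φ a b : Matrix (Fin 3) (Fin 3) F) = !![1, a, b; 0, 1, -φ a; 0, 0, 1] := rfl

theorem val_loU (a b : F) : (loU φ a b : Matrix (Fin 3) (Fin 3) F) = !![1, 0, 0; a, 1, 0; b, -φ a, 1] := rfl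

theorem iso_upU (hφ2 : ∀ x, φ (φ x) = x) {a b : F} (h : b + φ b + a * φ a = 0) :
    Iso φ (upU φ a b) := by
  intro u v
  simp [H_eq, val_upU, mulVec, dotProduct, Fin.sum_univ_three, hφ2]
  linear_combination (u 2 * φ (v 2)) * h

theorem iso_loU (hφ2 : ∀ x, φ (φ x) = x) {a b : F} (h : b + φ b + a * φ a = 0) :
    Iso φ (loU φ a b) := by
  intro u v
  simp [H_eq, val_loU, mulVec, dotProduct, Fin.sum_univ_three, hφ2]
  linear_combination (u 0 * φ (v 0)) * h

/-- The monomial element interchanging the two isotropic basis vectors. -/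
def wJ : SpecialLinearGroup (Fin 3) F :=
  ⟨!![0, 0, 1; 0, -1, 0; 1, 0, 0], by simp [det_fin_three]⟩

theorem val_wJ : ((wJ : SpecialLinearGroup (Fin 3) F) : Matrix (Fin 3) (Fin 3) F) = !![0, 0, 1; 0, -1, 0; 1, 0, 0] := rfl

theorem iso_wJ : Iso φ (wJ : SpecialLinearGroup (Fin 3) F) := by
  intro u v
  simp [H_eq, val_wJ, mulVec, dotProduct, Fin.sum_univ_three]
  ring

/-- The diagonal torus. -/
def tor (φ : F →+* F) (κ : F) (hκ : κ ≠ 0) : SpecialLinearGroup (Fin 3) F :=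
  ⟨!![κ, 0, 0; 0, φ κ / κ, 0; 0, 0, (φ κ)⁻¹], by
    have : φ κ ≠ 0 := by simpa using hκ
    simp [det_fin_three]
    field_simp⟩

theorem val_tor (κ : F) (hκ : κ ≠ 0) :
    (tor φ κ hκ : Matrix (Fin 3) (Fin 3) F) = !![κ, 0, 0; 0, φ κ / κ, 0; 0, 0, (φ κ)⁻¹] := rfl

theorem iso_tor (hφ2 : ∀ x, φ (φ x) = x) (κ : F) (hκ : κ ≠ 0) : Iso φ (tor φ κ hκ) := by
  intro u v
  have : φ κ ≠ 0 := by simpa using hκ
  simp [H_eq, val_tor, mulVec, dotProduct, Fin.sum_univ_three, hφ2]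
  field_simp

theorem Iso.mul {A B : SpecialLinearGroup (Fin 3) F} (hA : Iso φ A) (hB : Iso φ B) : Iso φ (A * B) := by
  intro a b
  rw [val_mul, ← mulVec_mulVec, ← mulVec_mulVec, hA, hB]

/-- Two conjugate isometries that generate a group containing all transvections give generators of
`SU 3 F q`. -/
theorem finish [Fintype F] (hF : Frob φ q) (hq2 : q ≠ 2) {u g : SpecialLinearGroup (Fin 3) F}
    (hu : Iso φ u) (hg : Iso φ g) (hnil : ((u : Matrix (Fin 3) (Fin 3) F) - 1) ^ 3 = 0)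
    (hreg : ((u : Matrix (Fin 3) (Fin 3) F) - 1) ^ 2 ≠ 0)
    (hfull : ∀ G : Subgroup (SpecialLinearGroup (Fin 3) F), u ∈ G → g * u * g⁻¹ ∈ G →
      ∀ v, H φ v v = 0 → Full φ G v) :
    ∃ u g : ↥(Cfsg.SU 3 F q), (IsNilpotent (((u : SpecialLinearGroup (Fin 3) F) : Matrix (Fin 3) (Fin 3) F) - 1) ∧
      (((u : SpecialLinearGroup (Fin 3) F) : Matrix (Fin 3) (Fin 3) F) - 1) ^ (3 - 1) ≠ 0) ∧
      Subgroup.closure ({u, g * u * g⁻¹} : Set ↥(Cfsg.SU 3 F q)) = ⊤ := by
  classical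
  obtain ⟨z, hz0⟩ := hF.hF.exists_norm (c := (-1 : F)) (by rw [hF.hF.neg_pow, one_pow])
  have hz : z * φ z = -1 := by rw [hF.hφ, ← pow_succ']; exact hz0
  obtain ⟨k, hk0⟩ := hF.hF.exists_trace (c := (-1 : F)) (by rw [hF.hF.neg_pow, one_pow])
  have hk : k + φ k = -1 := by rw [hF.hφ]; exact hk0
  set P : Matrix (Fin 3) (Fin 3) F := !![1, 0, 1 + k; z, 0, k * z; 0, 1, 0] with hP
  have hz' : z ≠ 0 := by rintro rfl; simp at hz
  have hdet : P.det ≠ 0 := by
    have e : P.det = z := by simp [hP, det_fin_three]; ring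
    rw [e]; exact hz'
  have hPu : IsUnit P.det := isUnit_iff_ne_zero.2 hdet
  set Q := P⁻¹ with hQ
  have hPQ : P * Q = 1 := Matrix.mul_nonsing_inv P hPu
  have hQP : Q * P = 1 := Matrix.nonsing_inv_mul P hPu
  have hform : ∀ a b, Cfsg.hermForm 3 F q (P *ᵥ a) (P *ᵥ b) = H φ a b := by
    intro a b
    simp only [Cfsg.hermForm, ← hF.hφ, H_eq, hP, mulVec, dotProduct, Fin.sum_univ_three]
    simp [hF.invol]
    linear_combination (a 0 * φ (b 0) + a 0 * φ (b 2) * φ k + a 2 * φ (b 0) * k +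
      a 2 * φ (b 2) * k * φ k) * hz + (a 2 * φ (b 2)) * hk
  let c : SpecialLinearGroup (Fin 3) F →* SpecialLinearGroup (Fin 3) F :=
    { toFun := fun M => ⟨P * M.1 * Q, by
        rw [det_mul, det_mul, M.2, mul_one, ← det_mul, hPQ, det_one]⟩
      map_one' := Subtype.ext (by show P * 1 * Q = 1; rw [Matrix.mul_one, hPQ])
      map_mul' := fun M N => Subtype.ext (by
        show P * (M.1 * N.1) * Q = P * M.1 * Q * (P * N.1 * Q)
        calc P * (M.1 * N.1) * Q = P * M.1 * (Q * P) * N.1 * Q := by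
              rw [hQP]; simp [Matrix.mul_assoc]
          _ = _ := by simp only [Matrix.mul_assoc]) }
  have hcv : ∀ M a, (c M).1 *ᵥ (P *ᵥ a) = P *ᵥ (M.1 *ᵥ a) := fun M a => by
    show (P * M.1 * Q) *ᵥ (P *ᵥ a) = _
    rw [mulVec_mulVec, Matrix.mul_assoc (P * M.1), hQP, Matrix.mul_one, mulVec_mulVec]
  have hcmem : ∀ M, Iso φ M → c M ∈ Cfsg.SU 3 F q := fun M hM a b => by
    show Cfsg.hermForm 3 F q ((c M).1 *ᵥ a) ((c M).1 *ᵥ b) = _
    obtain ⟨a', rfl⟩ : ∃ a', a = P *ᵥ a' := ⟨Q *ᵥ a, by rw [mulVec_mulVec, hPQ, one_mulVec]⟩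
    obtain ⟨b', rfl⟩ : ∃ b', b = P *ᵥ b' := ⟨Q *ᵥ b, by rw [mulVec_mulVec, hPQ, one_mulVec]⟩
    rw [hcv, hcv, hform, hform, hM]
  set U : ↥(Cfsg.SU 3 F q) := ⟨c u, hcmem u hu⟩
  set G : ↥(Cfsg.SU 3 F q) := ⟨c g, hcmem g hg⟩
  have hpow : ∀ n : ℕ, ((c u).1 - 1) ^ n = P * (u.1 - 1) ^ n * Q := by
    intro n
    induction n with
    | zero => simp [hPQ]
    | succ n ih =>
      rw [pow_succ, pow_succ, ih, show (c u).1 - 1 = P * (u.1 - 1) * Q by
        show P * u.1 * Q - 1 = _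
        rw [Matrix.mul_sub, Matrix.sub_mul, Matrix.mul_one, hPQ]]
      calc P * (u.1 - 1) ^ n * Q * (P * (u.1 - 1) * Q)
          = P * (u.1 - 1) ^ n * (Q * P) * (u.1 - 1) * Q := by simp only [Matrix.mul_assoc]
        _ = _ := by rw [hQP]; simp [Matrix.mul_assoc]
  refine ⟨U, G, ⟨⟨3, by show ((c u).1 - 1) ^ 3 = 0; rw [hpow, hnil]; simp⟩, ?_⟩, ?_⟩
  · show ((c u).1 - 1) ^ 2 ≠ 0
    rw [hpow]
    intro e
    refine hreg ?_
    calc (u.1 - 1) ^ 2 = Q * (P * (u.1 - 1) ^ 2 * Q) * P := by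
          rw [show Q * (P * (u.1 - 1) ^ 2 * Q) * P = Q * P * (u.1 - 1) ^ 2 * (Q * P) by
            simp only [Matrix.mul_assoc], hQP]
          simp
      _ = 0 := by rw [e]; simp
  have hcard : Fintype.card F = q ^ 2 := by rw [← Nat.card_eq_fintype_card]; exact hF.hF.2
  refine top_unique ?_
  rw [← S0780.result hcard 3 le_rfl (fun h => hq2 h.2), Subgroup.closure_le]
  rintro A ⟨v, x, hv, hA⟩
  obtain ⟨a, rfl⟩ : ∃ a, v = P *ᵥ a := ⟨Q *ᵥ v, by rw [mulVec_mulVec, hPQ, one_mulVec]⟩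
  rw [hform] at hv
  by_cases ha : a = 0
  · have h1 : A = 1 := Subtype.ext (Subtype.ext (by
      show (A.1 : Matrix (Fin 3) (Fin 3) F) = 1
      rw [hA, ha]
      ext i j
      simp [Cfsg.unitaryTransvection, vecMulVec]))
    rw [h1]; exact Subgroup.one_mem _
  set K : Subgroup (SpecialLinearGroup (Fin 3) F) :=
    ((Subgroup.closure ({U, G * U * G⁻¹} : Set ↥(Cfsg.SU 3 F q))).map (Cfsg.SU 3 F q).subtype).comap c
  have hK1 : u ∈ K := ⟨U, Subgroup.subset_closure (Or.inl rfl), rfl⟩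
  have hK2 : g * u * g⁻¹ ∈ K := ⟨G * U * G⁻¹, Subgroup.subset_closure (Or.inr rfl), by
    rw [map_mul, map_mul, map_inv, map_mul c, map_mul c, map_inv c]; rfl⟩
  have hfun : jv φ a ᵥ* Q = fun j => ((P *ᵥ a) j) ^ q := by
    refine dotProduct_eq _ _ fun b => ?_
    obtain ⟨b', rfl⟩ : ∃ b', b = P *ᵥ b' := ⟨Q *ᵥ b, by rw [mulVec_mulVec, hPQ, one_mulVec]⟩
    rw [← dotProduct_mulVec, mulVec_mulVec, hQP, one_mulVec,
      show jv φ a ⬝ᵥ b' = H φ b' a from rfl, ← hform]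
    simp [Cfsg.hermForm, dotProduct, mul_comm]
  have hcT : (c (T φ a x)).1 = (A.1 : Matrix (Fin 3) (Fin 3) F) := by
    show P * (T φ a x).1 * Q = _
    rw [val_T hv, hA, Cfsg.unitaryTransvection, Matrix.mul_add, Matrix.add_mul, Matrix.mul_one, hPQ,
      Matrix.mul_smul, Matrix.smul_mul, mul_vecMulVec, vecMulVec_mul, hfun]
  have hskew : φ x = -x := by
    -- `A` preserves the form
    have key : ∀ r s, H φ ((T φ a x).1 *ᵥ r) ((T φ a x).1 *ᵥ s) = H φ r s := fun r s => by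
      rw [← hform, ← hform, ← hcv, ← hcv, hcT]
      exact A.2 _ _
    obtain ⟨b, hb⟩ : ∃ b, H φ b a ≠ 0 := by
      by_contra hno
      push Not at hno
      refine ha ?_
      have := eq_jv (φ := φ) a 0 (fun w => by rw [hno]; simp [H_eq])
      ext i
      have e0 := congrFun this 0
      have e1 := congrFun this 1
      have e2 := congrFun this 2
      simp [jv] at e0 e1 e2
      fin_cases i <;> simp [e0, e1, e2]
    have := key b b
    rw [val_T hv, add_mulVec, one_mulVec, smul_mulVec, vecMulVec_mulVec, op_smul_eq_smul, smul_smul,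
      show jv φ a ⬝ᵥ b = H φ b a from rfl] at this
    have hab : H φ a b = φ (H φ b a) := (H_symm hF.invol b a).symm
    have e2 : H φ (b + (x * H φ b a) • a) (b + (x * H φ b a) • a) =
        H φ b b + (φ x + x) * (H φ b a * φ (H φ b a)) := by
      rw [show H φ (b + (x * H φ b a) • a) (b + (x * H φ b a) • a) =
          H φ b b + φ (x * H φ b a) * H φ b a + (x * H φ b a) * H φ a b +
            (x * H φ b a) * φ (x * H φ b a) * H φ a a by
        simp [H_eq]; ring, hv, hab, map_mul]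
      ring
    rw [e2] at this
    have h0 := (mul_eq_zero.1 (add_eq_left.1 this)).resolve_right
      (mul_ne_zero hb (by simpa using hb))
    linear_combination h0
  obtain ⟨B, hB, hBe⟩ := hfull K hK1 hK2 a hv x hskew
  have : A = B := Subtype.ext (Subtype.ext (by rw [← hcT, ← hBe]; rfl))
  rw [this]
  exact hB

end Cfsg.Agent.Known.SU3
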