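import Cfsg.Agent.Known.SU3Plane

/-!
Polynomial identities behind the transvection `(u v) ^ (q + 1)` in `SU₃(q)`, `q` odd.
-/

set_option autoImplicit false
set_option maxHeartbeats 2000000

namespace Cfsg.Agent.Known.SU3.OddId

open Matrix

variable {F : Type*} [Field F]

/-- `uv`. -/
def wM (l y : F) : Matrix (Fin 3) (Fin 3) F :=
  !![1, 1, -(1/2); 0, 1, -1; 0, 0, 1] *
    !![1, 0, 0; y, 1, 0; -(y ^ 2 / 2) - (l - l⁻¹) * (2 - (l + l⁻¹)), -y, 1]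

/-- The centre of the transvection. -/
def xv (l y : F) : Fin 3 → F := ![-((1 + l) / 2), y / 2 + 1 - l, l + l⁻¹ - 2 - y]

/-- The conjugate functional of `xv`. -/
def jx (l y : F) : Fin 3 → F := ![l + l⁻¹ - 2 - y, y / 2 + 1 - l⁻¹, -((1 + l⁻¹) / 2)]

variable {l y : F}

theorem rank_one (hl : l ≠ 0) (h2 : (2 : F) ≠ 0)
    (hR : y ^ 2 + 8 * y + 16 - 2 * (l + l⁻¹) * (l + l⁻¹ + 2) = 0) :
    (1 + l) • ((wM l y - l • (1 : Matrix (Fin 3) (Fin 3) F)) * (wM l y - (l⁻¹ ^ 2) • 1)) =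
      (-2 * l) • vecMulVec (xv l y) (jx l y) := by
  have h4 : (4 : F) ≠ 0 := by rw [show (4 : F) = 2 * 2 by norm_num]; exact mul_ne_zero h2 h2
  have h8 : (8 : F) ≠ 0 := by rw [show (8 : F) = 2 * 4 by norm_num]; exact mul_ne_zero h2 h4
  have h16 : (16 : F) ≠ 0 := by rw [show (16 : F) = 2 * 8 by norm_num]; exact mul_ne_zero h2 h8
  ext i j
  fin_cases i <;> fin_cases j <;>
    simp [wM, xv, jx, vecMulVec, Matrix.mul_apply, Fin.sum_univ_three]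
  · linear_combination (norm := (field_simp; ring)) (((1:F)/8)*(l⁻¹)^2 + ((-1:F)/8)*(l⁻¹)^1 + ((-1:F)/4) + ((1:F)/4)*y^1 + ((1:F)/16)*y^2 + ((1:F)/2)*l^1 + ((1:F)/4)*l^1*y^1 + ((1:F)/16)*l^1*y^2 + ((3:F)/8)*l^2 + ((-1:F)/8)*l^3) * hR
  · linear_combination (norm := (field_simp; ring)) (((1:F)/4) + ((1:F)/8)*y^1 + ((1:F)/4)*l^1 + ((1:F)/8)*l^1*y^1) * hR
  · linear_combination (norm := (field_simp; ring)) (((-1:F)/8) + ((-1:F)/8)*l^1) * hR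
  · linear_combination (norm := (field_simp; ring)) (((1:F)/4)*(l⁻¹)^2 + ((-1:F)/4)*(l⁻¹)^1 + ((-1:F)/2) + ((1:F)/4)*y^1 + ((1:F)/8)*y^2 + ((1:F)/4)*l^1*y^1 + ((1:F)/8)*l^1*y^2 + ((3:F)/4)*l^2 + ((-1:F)/4)*l^3) * hR
  · linear_combination (norm := (field_simp; ring)) (((1:F)/4)*y^1 + ((1:F)/2)*l^1 + ((1:F)/4)*l^1*y^1) * hR
  · linear_combination (norm := (field_simp; ring)) (((-1:F)/4) + ((-1:F)/4)*l^1) * hR
  · linear_combination (norm := (field_simp; ring)) (((-1:F)/4)*(l⁻¹)^2 + ((1:F)/4)*(l⁻¹)^1 + ((-1:F)/8)*y^2 + ((1:F)/2)*l^1 + ((-1:F)/8)*l^1*y^2 + ((-3:F)/4)*l^2 + ((1:F)/4)*l^3) * hR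
  · linear_combination (norm := (field_simp; ring)) (((1:F)/2) + ((-1:F)/4)*y^1 + ((-1:F)/2)*l^1 + ((-1:F)/4)*l^1*y^1) * hR
  · linear_combination (norm := (field_simp; ring)) (((1:F)/4) + ((1:F)/4)*l^1) * hR

theorem eigen (hl : l ≠ 0) (h2 : (2 : F) ≠ 0)
    (hR : y ^ 2 + 8 * y + 16 - 2 * (l + l⁻¹) * (l + l⁻¹ + 2) = 0) :
    wM l y *ᵥ xv l y = l • xv l y := by
  have h4 : (4 : F) ≠ 0 := by rw [show (4 : F) = 2 * 2 by norm_num]; exact mul_ne_zero h2 h2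
  have h8 : (8 : F) ≠ 0 := by rw [show (8 : F) = 2 * 4 by norm_num]; exact mul_ne_zero h2 h4
  ext i
  fin_cases i <;> simp [wM, xv, mulVec, dotProduct, Matrix.mul_apply, Fin.sum_univ_three]
  · linear_combination (norm := (field_simp; ring)) (((1:F)/8) + ((-1:F)/8)*l^1) * hR
  · linear_combination (norm := (field_simp; ring)) (((1:F)/4) + ((-1:F)/4)*l^1) * hR
  · linear_combination (norm := (field_simp; ring)) (((-1:F)/4) + ((1:F)/4)*l^1) * hR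

theorem isotropic (hl : l ≠ 0) (h2 : (2 : F) ≠ 0)
    (hR : y ^ 2 + 8 * y + 16 - 2 * (l + l⁻¹) * (l + l⁻¹ + 2) = 0) :
    jx l y ⬝ᵥ xv l y = 0 := by
  have h4 : (4 : F) ≠ 0 := by rw [show (4 : F) = 2 * 2 by norm_num]; exact mul_ne_zero h2 h2
  simp [xv, jx, dotProduct, Fin.sum_univ_three]
  linear_combination (norm := (field_simp; ring)) (((1:F)/4)) * hR

/-- `H (u x) x * H x (u x)`. -/
theorem norm_pair (hl : l ≠ 0) (h2 : (2 : F) ≠ 0)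
    (hR : y ^ 2 + 8 * y + 16 - 2 * (l + l⁻¹) * (l + l⁻¹ + 2) = 0) :
    (jx l y ⬝ᵥ (!![1, 1, -(1/2); 0, 1, -1; 0, 0, 1] *ᵥ xv l y)) *
      (jx l y ⬝ᵥ (!![1, -1, -(1/2); 0, 1, 1; 0, 0, 1] *ᵥ xv l y)) =
      (l + l⁻¹ + 2) ^ 2 * y ^ 4 / 64 -
        ((l + l⁻¹) ^ 2 - 4) * ((y + 2) ^ 2 - (l + l⁻¹) ^ 2) ^ 2 / 16 := by
  have h4 : (4 : F) ≠ 0 := by rw [show (4 : F) = 2 * 2 by norm_num]; exact mul_ne_zero h2 h2
  have h8 : (8 : F) ≠ 0 := by rw [show (8 : F) = 2 * 4 by norm_num]; exact mul_ne_zero h2 h4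
  have h16 : (16 : F) ≠ 0 := by rw [show (16 : F) = 2 * 8 by norm_num]; exact mul_ne_zero h2 h8
  have h32 : (32 : F) ≠ 0 := by rw [show (32 : F) = 2 * 16 by norm_num]; exact mul_ne_zero h2 h16
  have h64 : (64 : F) ≠ 0 := by rw [show (64 : F) = 2 * 32 by norm_num]; exact mul_ne_zero h2 h32
  simp [xv, jx, mulVec, dotProduct, Fin.sum_univ_three]
  linear_combination (norm := (field_simp; ring)) (((-1:F)/32)*(l⁻¹)^4 + ((1:F)/16)*(l⁻¹)^3 + ((-1:F)/8)*(l⁻¹)^2 + ((1:F)/8)*(l⁻¹)^2*y^1 + ((3:F)/64)*(l⁻¹)^2*y^2 + ((-5:F)/16)*(l⁻¹)^1 + ((-1:F)/16)*(l⁻¹)^1*y^2 + ((13:F)/16) + ((1:F)/4)*y^1 + ((-5:F)/32)*y^2 + ((-5:F)/16)*l^1 + ((-1:F)/16)*l^1*y^2 + ((-1:F)/8)*l^2 + ((1:F)/8)*l^2*y^1 + ((3:F)/64)*l^2*y^2 + ((1:F)/16)*l^3 + ((-1:F)/32)*l^4) * hR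

end Cfsg.Agent.Known.SU3.OddId
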