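import Cfsg.Agent.Known.Transv
import Cfsg.Agent.Linear.Transvection

/-!
The three dimensional unitary group in a hyperbolic basis, and a criterion for containing all of
its transvections: two full root groups with nonorthogonal centres and one element moving the
plane they span.
-/

set_option autoImplicit false
set_option maxHeartbeats 1000000

namespace Cfsg.Agent.Known.SU3

open Matrix

variable {F : Type*} [Field F]

/-- The conjugate of `v` as a functional for the antidiagonal form. -/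
def jv (φ : F →+* F) (v : Fin 3 → F) : Fin 3 → F := ![φ (v 2), φ (v 1), φ (v 0)]

/-- The antidiagonal Hermitian form. -/
def H (φ : F →+* F) (a b : Fin 3 → F) : F := jv φ b ⬝ᵥ a

theorem H_eq (φ : F →+* F) (a b : Fin 3 → F) :
    H φ a b = a 0 * φ (b 2) + a 1 * φ (b 1) + a 2 * φ (b 0) := by
  simp [H, jv, dotProduct, Fin.sum_univ_three]
  ring

variable {φ : F →+* F}

theorem H_symm (hφ2 : ∀ x, φ (φ x) = x) (a b : Fin 3 → F) : φ (H φ a b) = H φ b a := by
  simp [H_eq, hφ2]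
  ring

theorem H_smul_left (c : F) (a b : Fin 3 → F) : H φ (c • a) b = c * H φ a b := by
  simp [H, dotProduct_smul]

theorem H_smul_right (c : F) (a b : Fin 3 → F) : H φ a (c • b) = φ c * H φ a b := by
  simp [H_eq]
  ring

theorem jv_smul (c : F) (b : Fin 3 → F) : jv φ (c • b) = φ c • jv φ b := by
  ext i; fin_cases i <;> simp [jv]

theorem eq_jv (v w : Fin 3 → F) (h : ∀ a, H φ a v = H φ a w) : jv φ v = jv φ w :=
  dotProduct_eq _ _ h

variable (φ)

/-- `M` preserves the form. -/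
def Iso (M : SpecialLinearGroup (Fin 3) F) : Prop :=
  ∀ a b, H φ ((M : Matrix (Fin 3) (Fin 3) F) *ᵥ a) ((M : Matrix (Fin 3) (Fin 3) F) *ᵥ b) = H φ a b

/-- The unitary transvection with centre `v`. -/
noncomputable def T (v : Fin 3 → F) (c : F) : SpecialLinearGroup (Fin 3) F := tv (c • v) (jv φ v)

/-- The full root group at `v` lies in `G`. -/
def Full (G : Subgroup (SpecialLinearGroup (Fin 3) F)) (v : Fin 3 → F) : Prop :=
  ∀ c, φ c = -c → T φ v c ∈ G

variable {φ}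

theorem val_T {v : Fin 3 → F} (hv : H φ v v = 0) (c : F) :
    (T φ v c : Matrix (Fin 3) (Fin 3) F) = 1 + c • vecMulVec v (jv φ v) := by
  rw [T, val_tv (by rw [dotProduct_smul, ← H, hv, smul_zero]), smul_vecMulVec]

theorem T_smul {v : Fin 3 → F} (hv : H φ v v = 0) (a c : F) :
    T φ (a • v) c = T φ v (a * φ a * c) := by
  refine Subtype.ext ?_
  rw [val_T (by rw [H_smul_left, H_smul_right, hv, mul_zero, mul_zero]), val_T hv, jv_smul,
    smul_vecMulVec, vecMulVec_smul, smul_smul, smul_smul]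
  congr 2
  ring

theorem Full.smul {G : Subgroup (SpecialLinearGroup (Fin 3) F)} {v : Fin 3 → F} (hv : H φ v v = 0)
    (hG : Full φ G v) (hφ2 : ∀ x, φ (φ x) = x) (a : F) : Full φ G (a • v) := by
  intro c hc
  rw [T_smul hv]
  refine hG _ ?_
  rw [map_mul, map_mul, hφ2, hc]
  ring

theorem jv_isometry {M : SpecialLinearGroup (Fin 3) F} (hM : Iso φ M) (v : Fin 3 → F) :
    jv φ ((M : Matrix (Fin 3) (Fin 3) F) *ᵥ v) =
      jv φ v ᵥ* ((M⁻¹ : SpecialLinearGroup (Fin 3) F) : Matrix (Fin 3) (Fin 3) F) := by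
  refine dotProduct_eq _ _ fun a => ?_
  have ha : (M : Matrix (Fin 3) (Fin 3) F) *ᵥ
      (((M⁻¹ : SpecialLinearGroup (Fin 3) F) : Matrix (Fin 3) (Fin 3) F) *ᵥ a) = a := by
    rw [mulVec_mulVec, val_mul_inv, one_mulVec]
  conv_lhs => rw [← ha]
  rw [show jv φ ((M : Matrix (Fin 3) (Fin 3) F) *ᵥ v) ⬝ᵥ _ = _ from hM _ v, H, dotProduct_mulVec]

theorem T_conj {M : SpecialLinearGroup (Fin 3) F} (hM : Iso φ M) {v : Fin 3 → F}
    (hv : H φ v v = 0) (c : F) :
    M * T φ v c * M⁻¹ = T φ ((M : Matrix (Fin 3) (Fin 3) F) *ᵥ v) c := by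
  rw [T, T, tv_conj M (by rw [dotProduct_smul, ← H, hv, smul_zero]), mulVec_smul, jv_isometry hM]

theorem Full.conj {G : Subgroup (SpecialLinearGroup (Fin 3) F)} {M : SpecialLinearGroup (Fin 3) F}
    (hM : Iso φ M) (hMG : M ∈ G) {v : Fin 3 → F} (hv : H φ v v = 0) (hG : Full φ G v) :
    Full φ G ((M : Matrix (Fin 3) (Fin 3) F) *ᵥ v) := by
  intro c hc
  rw [← T_conj hM hv]
  exact G.mul_mem (G.mul_mem hMG (hG c hc)) (G.inv_mem hMG)

/-- The fixed field of `φ`. -/
abbrev F0 (φ : F →+* F) : Subfield F := φ.eqLocusField (RingHom.id F)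

theorem mem_F0 {x : F} : x ∈ F0 φ ↔ φ x = x := Iff.rfl

theorem coe_F0 (x : F0 φ) : φ (x : F) = x := x.2

variable (φ)

/-- A hyperbolic plane. -/
structure Plane where
  /-- first centre -/
  p1 : Fin 3 → F
  /-- second centre -/
  p2 : Fin 3 → F
  /-- their product -/
  θ : F
  hφ2 : ∀ x, φ (φ x) = x
  h11 : H φ p1 p1 = 0
  h22 : H φ p2 p2 = 0
  h12 : H φ p1 p2 = θ
  hθ : φ θ = -θ
  hθ0 : θ ≠ 0

variable {φ}

namespace Plane

variable (D : Plane φ)

theorem h21 : H φ D.p2 D.p1 = -D.θ := by rw [← H_symm D.hφ2, D.h12, D.hθ]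

/-- The basis of the plane as columns. -/
def Z : Matrix (Fin 3) (Fin 2) F := Matrix.of fun i j => ![D.p1 i, D.p2 i] j

/-- The coordinates in the plane. -/
def C : Matrix (Fin 2) (Fin 3) F :=
  Matrix.of fun i j => ![D.θ⁻¹ * jv φ D.p2 j, -D.θ⁻¹ * jv φ D.p1 j] i

theorem C_mulVec (v : Fin 3 → F) :
    D.C *ᵥ v = ![D.θ⁻¹ * H φ v D.p2, -D.θ⁻¹ * H φ v D.p1] := by
  ext i; fin_cases i <;> simp [C, mulVec, H, dotProduct, Fin.sum_univ_three] <;> ring

theorem Z_mulVec (w : Fin 2 → F) : D.Z *ᵥ w = w 0 • D.p1 + w 1 • D.p2 := by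
  ext i; simp [Z, mulVec, dotProduct, Fin.sum_univ_two]; ring

theorem C_p1 : D.C *ᵥ D.p1 = ![1, 0] := by
  rw [C_mulVec, D.h12, D.h11, mul_zero, inv_mul_cancel₀ D.hθ0]

theorem C_p2 : D.C *ᵥ D.p2 = ![0, 1] := by
  rw [C_mulVec, D.h22, D.h21, mul_zero, neg_mul_neg, inv_mul_cancel₀ D.hθ0]

theorem C_mul_Z : D.C * D.Z = 1 := by
  refine ext_of_mulVec_single fun j => ?_
  rw [← mulVec_mulVec, Z_mulVec, mulVec_add, mulVec_smul, mulVec_smul, C_p1, C_p2, one_mulVec]
  ext i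
  fin_cases i <;> fin_cases j <;> simp

/-- A matrix over the fixed field as one over `F`. -/
abbrev up2 (M : SpecialLinearGroup (Fin 2) (F0 φ)) : Matrix (Fin 2) (Fin 2) F :=
  (M : Matrix (Fin 2) (Fin 2) (F0 φ)).map Subtype.val

/-- `SL₂` of the fixed field acting on the plane. -/
def ψ : SpecialLinearGroup (Fin 2) (F0 φ) →* SpecialLinearGroup (Fin 3) F where
  toFun M := ⟨1 + D.Z * (up2 M - 1) * D.C, by
    rw [Matrix.det_one_add_mul_comm, ← Matrix.mul_assoc, D.C_mul_Z, Matrix.one_mul]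
    refine (congrArg Matrix.det (add_sub_cancel _ _)).trans ?_
    exact ((RingHom.map_det (F0 φ).subtype (M : Matrix (Fin 2) (Fin 2) (F0 φ))).symm.trans
      (by rw [M.2, map_one]))⟩
  map_one' := Subtype.ext (by
    show 1 + D.Z * (up2 1 - 1) * D.C = 1
    have : up2 (1 : SpecialLinearGroup (Fin 2) (F0 φ)) = (1 : Matrix (Fin 2) (Fin 2) F) := by
      ext i j; fin_cases i <;> fin_cases j <;> simp
    simp [this])
  map_mul' M N := Subtype.ext (by
    show 1 + D.Z * (up2 (M * N) - 1) * D.C =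
      (1 + D.Z * (up2 M - 1) * D.C) * (1 + D.Z * (up2 N - 1) * D.C)
    have e0 : up2 (M * N) = up2 M * up2 N :=
      Matrix.map_mul (f := (F0 φ).subtype)
    set X := up2 M - 1 with hX
    set Y := up2 N - 1 with hY
    have e : up2 (M * N) - 1 = X + Y + X * Y := by rw [e0, hX, hY]; noncomm_ring
    have e2 : D.Z * X * D.C * (D.Z * Y * D.C) = D.Z * (X * Y) * D.C := by
      calc D.Z * X * D.C * (D.Z * Y * D.C) = D.Z * X * (D.C * D.Z) * (Y * D.C) := by
            simp only [Matrix.mul_assoc]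
        _ = _ := by rw [D.C_mul_Z, Matrix.mul_one]; simp only [Matrix.mul_assoc]
    rw [e, add_mul, mul_add, mul_add, one_mul, one_mul, mul_one, e2]
    simp only [Matrix.mul_add, Matrix.add_mul]
    abel)

theorem val_ψ (M : SpecialLinearGroup (Fin 2) (F0 φ)) :
    (D.ψ M : Matrix (Fin 3) (Fin 3) F) = 1 + D.Z * (up2 M - 1) * D.C := rfl

theorem ψ_mulVec (M : SpecialLinearGroup (Fin 2) (F0 φ)) (v : Fin 3 → F) :
    (D.ψ M : Matrix (Fin 3) (Fin 3) F) *ᵥ v =
      (v - D.Z *ᵥ (D.C *ᵥ v)) + D.Z *ᵥ (up2 M *ᵥ (D.C *ᵥ v)) := by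
  rw [val_ψ, add_mulVec, one_mulVec, ← mulVec_mulVec, ← mulVec_mulVec, sub_mulVec, one_mulVec,
    mulVec_sub]
  abel

theorem H_decomp (a b : Fin 3 → F) :
    H φ a b = D.θ * ((D.C *ᵥ a) 0 * φ ((D.C *ᵥ b) 1) - (D.C *ᵥ a) 1 * φ ((D.C *ᵥ b) 0)) +
      H φ (a - D.Z *ᵥ (D.C *ᵥ a)) (b - D.Z *ᵥ (D.C *ᵥ b)) := by
  set r := a - D.Z *ᵥ (D.C *ᵥ a) with hr
  set r' := b - D.Z *ᵥ (D.C *ᵥ b) with hr'
  have hker : ∀ w, H φ (w - D.Z *ᵥ (D.C *ᵥ w)) D.p1 = 0 ∧ H φ (w - D.Z *ᵥ (D.C *ᵥ w)) D.p2 = 0 := by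
    intro w
    have hz : D.C *ᵥ (w - D.Z *ᵥ (D.C *ᵥ w)) = 0 := by
      rw [mulVec_sub, mulVec_mulVec, D.C_mul_Z, one_mulVec, sub_self]
    rw [D.C_mulVec (w - _)] at hz
    have e0 := congrFun hz 0
    have e1 := congrFun hz 1
    simp [D.hθ0] at e0 e1
    exact ⟨by simpa [mulVec_mulVec] using e1, by simpa [mulVec_mulVec] using e0⟩
  have h1 : H φ D.p1 r' = 0 := by rw [← H_symm D.hφ2, (hker b).1, map_zero]
  have h2 : H φ D.p2 r' = 0 := by rw [← H_symm D.hφ2, (hker b).2, map_zero]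
  have add_left : ∀ u v w : Fin 3 → F, H φ (u + v) w = H φ u w + H φ v w := fun u v w => by
    simp [H, dotProduct_add]
  have add_right : ∀ u v w : Fin 3 → F, H φ u (v + w) = H φ u v + H φ u w := fun u v w => by
    simp [H_eq]; ring
  conv_lhs =>
    rw [show a = D.Z *ᵥ (D.C *ᵥ a) + r by rw [hr]; abel,
      show b = D.Z *ᵥ (D.C *ᵥ b) + r' by rw [hr']; abel]
  simp only [Z_mulVec, add_left, add_right, H_smul_left, H_smul_right, D.h11, D.h22, D.h12, D.h21,
    h1, h2, show H φ r D.p1 = 0 from (hker a).1, show H φ r D.p2 = 0 from (hker a).2]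
  ring

theorem ψ_isometry (M : SpecialLinearGroup (Fin 2) (F0 φ)) : Iso φ (D.ψ M) := by
  intro a b
  have hC : ∀ v, D.C *ᵥ ((D.ψ M : Matrix (Fin 3) (Fin 3) F) *ᵥ v) = up2 M *ᵥ (D.C *ᵥ v) := by
    intro v
    have hcz : ∀ w, D.C *ᵥ (D.Z *ᵥ w) = w := fun w => by rw [mulVec_mulVec, D.C_mul_Z, one_mulVec]
    rw [ψ_mulVec, mulVec_add, mulVec_sub, hcz, hcz, sub_self, zero_add]
  have hr : ∀ v, (D.ψ M : Matrix (Fin 3) (Fin 3) F) *ᵥ v -
      D.Z *ᵥ (D.C *ᵥ ((D.ψ M : Matrix (Fin 3) (Fin 3) F) *ᵥ v)) = v - D.Z *ᵥ (D.C *ᵥ v) := by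
    intro v
    rw [hC, ψ_mulVec]
    abel
  rw [D.H_decomp _ _, D.H_decomp a b, hr, hr, hC, hC]
  congr 1
  have hdet : (up2 M).det = 1 := by
    exact ((RingHom.map_det (F0 φ).subtype (M : Matrix (Fin 2) (Fin 2) (F0 φ))).symm.trans
      (by rw [M.2, map_one]))
  have hreal : ∀ i j, φ (up2 M i j) = up2 M i j := fun i j => coe_F0 _
  rw [det_fin_two] at hdet
  generalize D.C *ᵥ a = ca
  generalize D.C *ᵥ b = cb
  simp only [mulVec, dotProduct, Fin.sum_univ_two, map_add, map_mul, hreal]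
  linear_combination (D.θ * (ca 0 * φ (cb 1) - ca 1 * φ (cb 0))) * hdet

theorem val_ψ_low (M : SpecialLinearGroup (Fin 2) (F0 φ)) (s : F0 φ)
    (h : (M : Matrix (Fin 2) (Fin 2) (F0 φ)) = !![1, 0; s, 1]) :
    D.ψ M = T φ D.p2 ((s : F) / D.θ) := by
  refine Subtype.ext ?_
  rw [val_ψ, val_T D.h22, up2, h]
  congr 1
  ext i j
  simp [Z, C, Matrix.mul_apply, Fin.sum_univ_two, vecMulVec]
  ring

theorem val_ψ_upp (M : SpecialLinearGroup (Fin 2) (F0 φ)) (t : F0 φ)
    (h : (M : Matrix (Fin 2) (Fin 2) (F0 φ)) = !![1, t; 0, 1]) :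
    D.ψ M = T φ D.p1 (-(t : F) / D.θ) := by
  refine Subtype.ext ?_
  rw [val_ψ, val_T D.h11, up2, h]
  congr 1
  ext i j
  simp [Z, C, Matrix.mul_apply, Fin.sum_univ_two, vecMulVec]
  ring

theorem full_p1 {G : Subgroup (SpecialLinearGroup (Fin 3) F)} (h : ∀ M, D.ψ M ∈ G) :
    Full φ G D.p1 := by
  intro c hc
  have ht : -c * D.θ ∈ F0 φ := by rw [mem_F0, map_mul, map_neg, hc, D.hθ]; ring
  obtain ⟨M, hM⟩ : ∃ M : SpecialLinearGroup (Fin 2) (F0 φ),
      (M : Matrix (Fin 2) (Fin 2) (F0 φ)) = !![1, ⟨-c * D.θ, ht⟩; 0, 1] :=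
    ⟨⟨_, by simp [det_fin_two]⟩, rfl⟩
  have := h M
  rw [D.val_ψ_upp M _ hM] at this
  convert this using 2
  field_simp [D.hθ0]

theorem full_p2 {G : Subgroup (SpecialLinearGroup (Fin 3) F)} (h : ∀ M, D.ψ M ∈ G) :
    Full φ G D.p2 := by
  intro c hc
  have ht : c * D.θ ∈ F0 φ := by rw [mem_F0, map_mul, hc, D.hθ]; ring
  obtain ⟨M, hM⟩ : ∃ M : SpecialLinearGroup (Fin 2) (F0 φ),
      (M : Matrix (Fin 2) (Fin 2) (F0 φ)) = !![1, 0; ⟨c * D.θ, ht⟩, 1] :=
    ⟨⟨_, by simp [det_fin_two]⟩, rfl⟩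
  have := h M
  rw [D.val_ψ_low M _ hM] at this
  convert this using 2
  field_simp [D.hθ0]

/-- One element moving the plane gives all root groups. -/
theorem full_all {G : Subgroup (SpecialLinearGroup (Fin 3) F)} (h : ∀ M, D.ψ M ∈ G)
    {g : SpecialLinearGroup (Fin 3) F} (hg : g ∈ G) (hgi : Iso φ g) {x : Fin 3 → F}
    (hx : H φ x x = 0) (hxG : Full φ G x)
    (hmove : (Matrix.of ![D.p1, D.p2, (g : Matrix (Fin 3) (Fin 3) F) *ᵥ x]).det ≠ 0)
    (v : Fin 3 → F) (hv : H φ v v = 0) : Full φ G v := by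
  by_cases hv0 : v = 0
  · subst hv0
    intro c _
    rw [T, smul_zero, tv_zero_left]
    exact G.one_mem
  set y := (g : Matrix (Fin 3) (Fin 3) F) *ᵥ x with hy
  have hy0 : H φ y y = 0 := by rw [hy, hgi, hx]
  have hyG : Full φ G y := hxG.conj hgi hg hx
  set ry := y - D.Z *ᵥ (D.C *ᵥ y) with hry
  have hry0 : ry ≠ 0 := by
    intro e
    refine hmove ?_
    rw [← Matrix.exists_vecMul_eq_zero_iff]
    refine ⟨![(D.C *ᵥ y) 0, (D.C *ᵥ y) 1, -1], ?_, ?_⟩
    · intro e'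
      simpa using congrFun e' 2
    · rw [hry, sub_eq_zero, Z_mulVec] at e
      ext i
      simp [vecMul, dotProduct, Fin.sum_univ_three]
      have := congrFun e i
      simp at this
      linear_combination -this
  set rv := v - D.Z *ᵥ (D.C *ᵥ v) with hrv
  have hker : ∀ w, D.C *ᵥ (w - D.Z *ᵥ (D.C *ᵥ w)) = 0 := fun w => by
    rw [mulVec_sub, mulVec_mulVec, D.C_mul_Z, one_mulVec, sub_self]
  obtain ⟨c, hc⟩ : ∃ c : F, c • ry = rv := by
    have hf : Module.finrank F (LinearMap.ker (Matrix.mulVecLin D.C)) ≤ 1 := by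
      have h1 := LinearMap.finrank_range_add_finrank_ker (Matrix.mulVecLin D.C)
      have h2 : Module.finrank F (LinearMap.range (Matrix.mulVecLin D.C)) = 2 := by
        rw [LinearMap.range_eq_top.2 (fun w => ⟨D.Z *ᵥ w, by simp [mulVec_mulVec, D.C_mul_Z]⟩),
          finrank_top, Module.finrank_fin_fun]
      rw [h2, Module.finrank_fin_fun] at h1
      omega
    obtain ⟨z, hz⟩ := finrank_le_one_iff.1 hf
    obtain ⟨a, ha⟩ := hz ⟨ry, hker y⟩
    obtain ⟨b, hb⟩ := hz ⟨rv, hker v⟩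
    have ha' := congrArg Subtype.val ha
    have hb' := congrArg Subtype.val hb
    simp only [SetLike.val_smul] at ha' hb'
    have ha0 : a ≠ 0 := fun e => hry0 (by rw [← ha', e, zero_smul])
    refine ⟨b / a, ?_⟩
    rw [← hb', ← ha', smul_smul, div_mul_cancel₀ _ ha0]
  by_cases hc0 : c = 0
  · -- `v` lies in the plane
    have hr : rv = 0 := by rw [← hc, hc0, zero_smul]
    have hq : (D.C *ᵥ v) 0 * φ ((D.C *ᵥ v) 1) = (D.C *ᵥ v) 1 * φ ((D.C *ᵥ v) 0) := by
      have := D.H_decomp v v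
      rw [hv, ← hrv, hr, show H φ (0 : Fin 3 → F) 0 = 0 by simp [H], add_zero] at this
      exact sub_eq_zero.1 ((mul_eq_zero.1 this.symm).resolve_left D.hθ0)
    set a := (D.C *ᵥ v) 0 with ha
    set b := (D.C *ᵥ v) 1 with hb
    have hv' : v = a • D.p1 + b • D.p2 := by
      rw [hrv, sub_eq_zero, Z_mulVec] at hr; exact hr
    by_cases ha0 : a = 0
    · rw [hv', ha0, zero_smul, zero_add]
      exact (D.full_p2 h).smul D.h22 D.hφ2 b
    · have hr' : b / a ∈ F0 φ := by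
        rw [mem_F0, map_div₀, div_eq_div_iff (by simpa using ha0) ha0]
        linear_combination hq
      set M : SpecialLinearGroup (Fin 2) (F0 φ) := ⟨!![1, 0; ⟨b / a, hr'⟩, 1], by simp [det_fin_two]⟩ with hM
      have e : v = a • ((D.ψ M : Matrix (Fin 3) (Fin 3) F) *ᵥ D.p1) := by
        rw [ψ_mulVec, C_p1]
        conv_lhs => rw [hv']
        simp [hM, Z_mulVec, mulVec, dotProduct, Fin.sum_univ_two, smul_add, smul_smul]
        rw [mul_div_cancel₀ _ ha0]
      rw [e]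
      exact ((D.full_p1 h).conj (D.ψ_isometry M) (h M) D.h11).smul
        (by rw [D.ψ_isometry, D.h11]) D.hφ2 a
  · -- rescale to the orbit of `y`
    set v' := c⁻¹ • v with hv'
    set a' := (D.C *ᵥ v') 0
    set b' := (D.C *ᵥ v') 1
    set a := (D.C *ᵥ y) 0
    set b := (D.C *ᵥ y) 1
    have hr' : v' - D.Z *ᵥ (D.C *ᵥ v') = ry := by
      rw [hv', mulVec_smul, mulVec_smul, ← smul_sub, ← hrv, ← hc, smul_smul, inv_mul_cancel₀ hc0, one_smul]
    have hq : a' * φ b' - b' * φ a' = a * φ b - b * φ a := by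
      have h1 := D.H_decomp v' v'
      have h2 := D.H_decomp y y
      rw [show H φ v' v' = 0 by rw [hv', H_smul_left, H_smul_right, hv, mul_zero, mul_zero], hr'] at h1
      rw [hy0, ← hry] at h2
      exact mul_left_cancel₀ D.hθ0 (add_right_cancel (h1.symm.trans h2))
    have hne : a * φ b - b * φ a ≠ 0 := by
      intro e
      by_cases hH : H φ ry ry = 0
      · refine hry0 ?_
        have hperp : ∀ w, H φ w ry = 0 := by
          intro w
          have h0 : H φ ry D.p1 = 0 ∧ H φ ry D.p2 = 0 := by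
            have := hker y
            rw [← hry, C_mulVec] at this
            have e0 := congrFun this 0
            have e1 := congrFun this 1
            simp [D.hθ0] at e0 e1
            exact ⟨e1, e0⟩
          have h1 : H φ D.p1 ry = 0 := by rw [← H_symm D.hφ2, h0.1, map_zero]
          have h2 : H φ D.p2 ry = 0 := by rw [← H_symm D.hφ2, h0.2, map_zero]
          have hy' : y = D.Z *ᵥ (D.C *ᵥ y) + ry := by rw [hry]; abel
          -- every vector is `p1`, `p2`, `ry` combination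
          have hsp : ∃ t : Fin 3 → F, w = t 0 • D.p1 + t 1 • D.p2 + t 2 • y := by
            have hu : IsUnit (Matrix.of ![D.p1, D.p2, y]) :=
              (Matrix.isUnit_iff_isUnit_det _).2 (isUnit_iff_ne_zero.2 hmove)
            obtain ⟨t, ht⟩ := (Matrix.vecMul_surjective_iff_isUnit.2 hu) w
            refine ⟨t, ?_⟩
            rw [← ht]
            ext i
            simp [vecMul, dotProduct, Fin.sum_univ_three]
          obtain ⟨t, rfl⟩ := hsp
          rw [show H φ (t 0 • D.p1 + t 1 • D.p2 + t 2 • y) ry =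
            t 0 * H φ D.p1 ry + t 1 * H φ D.p2 ry + t 2 * H φ y ry by
              simp [H, dotProduct_add, dotProduct_smul], h1, h2]
          have : H φ y ry = H φ ry ry := by
            conv_lhs => rw [hy', Z_mulVec]
            rw [show H φ ((D.C *ᵥ y) 0 • D.p1 + (D.C *ᵥ y) 1 • D.p2 + ry) ry =
              (D.C *ᵥ y) 0 * H φ D.p1 ry + (D.C *ᵥ y) 1 * H φ D.p2 ry + H φ ry ry by
                simp [H, dotProduct_add, dotProduct_smul], h1, h2]
            ring
          rw [this, hH]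
          ring
        have := eq_jv (φ := φ) ry 0 (fun w => by rw [hperp]; simp [H_eq])
        ext i
        have e0 := congrFun this 0
        have e1 := congrFun this 1
        have e2 := congrFun this 2
        simp [jv] at e0 e1 e2
        fin_cases i <;> simp [e0, e1, e2]
      · have h2 := D.H_decomp y y
        rw [hy0, ← hry, e, mul_zero, zero_add] at h2
        exact hH h2.symm
    set Δ := a * φ b - b * φ a with hΔ
    have hΔφ : φ Δ = -Δ := by simp [hΔ, D.hφ2]; ring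
    have hmem : ∀ z : F, (z - φ z) / Δ ∈ F0 φ := fun z => by
      rw [mem_F0, map_div₀, map_sub, D.hφ2, hΔφ, div_neg, ← neg_div, neg_sub]
    set M : Matrix (Fin 2) (Fin 2) (F0 φ) := !![⟨_, hmem (a' * φ b)⟩, ⟨_, hmem (a * φ a')⟩;
      ⟨_, hmem (b' * φ b)⟩, ⟨_, hmem (a * φ b')⟩] with hM
    have hdet : M.det = 1 := by
      refine Subtype.ext ?_
      rw [det_fin_two]
      simp [hM, D.hφ2]
      field_simp
      rw [hΔ]
      linear_combination (a * φ b - b * φ a) * hq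
    set MM : SpecialLinearGroup (Fin 2) (F0 φ) := ⟨M, hdet⟩
    have hMy : (D.ψ MM : Matrix (Fin 3) (Fin 3) F) *ᵥ y = v' := by
      have e : up2 MM *ᵥ (D.C *ᵥ y) = D.C *ᵥ v' := by
        ext i
        fin_cases i <;> simp [MM, hM, mulVec, dotProduct, Fin.sum_univ_two, D.hφ2] <;> field_simp <;>
          (simp only [hΔ, a, b, a', b', mulVec, dotProduct]; ring)
      rw [ψ_mulVec, ← hry, ← hr', e]
      abel
    have : v = c • v' := by rw [hv', smul_smul, mul_inv_cancel₀ hc0, one_smul]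
    rw [this]
    refine Full.smul ?_ ?_ D.hφ2 c
    · rw [hv', H_smul_left, H_smul_right, hv, mul_zero, mul_zero]
    · rw [← hMy]
      exact hyG.conj (D.ψ_isometry MM) (h MM) hy0

end Plane

end Cfsg.Agent.Known.SU3
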