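import Cfsg.Agent.Known.SU3Plane
import Cfsg.Agent.PSLTwoSub.DicksonGen

/-!
Root groups of `SU₃` from two transvections (odd characteristic, Dickson) or three (even
characteristic).
-/

set_option autoImplicit false
set_option maxHeartbeats 1000000

namespace Cfsg.Agent.Known.SU3

open Matrix

variable {F : Type*} [Field F]

/-- The upper unipotent of `SL₂`. -/
def upp {K : Type*} [Field K] (t : K) : SpecialLinearGroup (Fin 2) K := ⟨!![1, t; 0, 1], by simp [det_fin_two]⟩

/-- The lower unipotent of `SL₂`. -/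
def lo {K : Type*} [Field K] (t : K) : SpecialLinearGroup (Fin 2) K := ⟨!![1, 0; t, 1], by simp [det_fin_two]⟩

theorem val_upp {K : Type*} [Field K] (t : K) : (upp t : Matrix (Fin 2) (Fin 2) K) = !![1, t; 0, 1] := rfl

theorem val_lo {K : Type*} [Field K] (t : K) : (lo t : Matrix (Fin 2) (Fin 2) K) = !![1, 0; t, 1] := rfl

section Odd

variable [Fintype F] {φ : F →+* F}

/-- Two transvections with a generating product give the whole `SL₂`. -/
theorem Plane.all_of_dickson (h2 : (2 : F) ≠ 0) (D : Plane φ) (lam : F0 φ) (hlam : lam ≠ 0)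
    (hgen : ∀ K : Subfield (F0 φ), lam ∈ K → K = ⊤)
    (hexc : ¬ (Nat.card (F0 φ) = 9 ∧ lam ^ 2 = -1))
    {G : Subgroup (SpecialLinearGroup (Fin 3) F)} (h1 : T φ D.p1 (-(lam : F) / D.θ) ∈ G)
    (h3 : T φ D.p2 (1 / D.θ) ∈ G) : ∀ M, D.ψ M ∈ G := by
  classical
  haveI : Fintype (F0 φ) := Fintype.ofFinite _
  have h2' : (2 : F0 φ) ≠ 0 := fun e => h2 (congrArg Subtype.val e)
  have hcl := PSLTwoSub.closure_eq_top h2' hlam (hgen _ (Subfield.subset_closure rfl))
    (by rw [← Nat.card_eq_fintype_card]; exact hexc)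
  intro M
  have hM : M ∈ G.comap D.ψ := by
    refine (le_of_eq ?_ : (⊤ : Subgroup _) ≤ G.comap D.ψ) (Subgroup.mem_top M)
    refine (top_unique ?_).symm
    rw [← hcl, Subgroup.closure_le]
    rintro N (hN | hN)
    · show D.ψ N ∈ G
      rw [D.val_ψ_low N 1 hN]
      exact h3
    · show D.ψ N ∈ G
      rw [D.val_ψ_upp N lam hN]
      exact h1
  exact hM

end Odd

section Even

variable {K : Type*} [Field K] [Finite K]

/-- In even characteristic an element interchanging `upp 1` and `lo b`. -/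
theorem exists_swap (h2 : (2 : K) = 0) {b : K} (hb : b ≠ 0) (H : Subgroup (SpecialLinearGroup (Fin 2) K))
    (hu : upp 1 ∈ H) (hl : lo b ∈ H) :
    ∃ d ∈ H, (d : Matrix (Fin 2) (Fin 2) K) 0 0 = 0 ∧ (d : Matrix (Fin 2) (Fin 2) K) 1 0 ^ 2 = b := by
  haveI : CharP K 2 := CharTwo.of_one_ne_zero_of_two_eq_zero one_ne_zero h2
  haveI : Fintype K := Fintype.ofFinite K
  set x : SpecialLinearGroup (Fin 2) K := upp 1 with hx
  set y : SpecialLinearGroup (Fin 2) K := lo b with hy
  have hxx : x * x = 1 := Subtype.ext (by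
    show !![(1 : K), 1; 0, 1] * !![1, 1; 0, 1] = 1
    rw [mul_fin_two, one_fin_two]; simp [CharTwo.add_self_eq_zero])
  have hyy : y * y = 1 := Subtype.ext (by
    show !![(1 : K), 0; b, 1] * !![1, 0; b, 1] = 1
    rw [mul_fin_two, one_fin_two]; simp [CharTwo.add_self_eq_zero])
  set R := y * x with hR
  -- `R` has odd order
  have hodd : Odd (orderOf R) := by
    rw [← Nat.not_even_iff_odd]
    rintro ⟨n, hn⟩
    have hpos : 0 < orderOf R := orderOf_pos R
    set I := R ^ n with hI
    have hII : I * I = 1 := by rw [hI, ← pow_add, ← hn, pow_orderOf_eq_one]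
    have hI1 : I ≠ 1 := fun e => by
      have := Nat.le_of_dvd (by omega) (orderOf_dvd_of_pow_eq_one (show R ^ n = 1 from e))
      omega
    have hxR : x * R * x⁻¹ = R⁻¹ := by
      rw [hR, _root_.mul_inv_rev, inv_eq_of_mul_eq_one_right hxx, inv_eq_of_mul_eq_one_right hyy,
        mul_assoc, mul_assoc, hxx, mul_one]
    have hIx : x * I = I * x := by
      have h : x * I * x⁻¹ = I := by
        rw [hI, ← conj_pow, hxR, inv_pow]
        exact inv_eq_of_mul_eq_one_right (by rw [← hI]; exact hII)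
      exact mul_inv_eq_iff_eq_mul.1 h
    have hIy : y * I = I * y := by
      have h : Commute R I := by rw [hI]; exact Commute.self_pow R n
      have hyR : y = R * x := by rw [hR, mul_assoc, hxx, mul_one]
      rw [hyR, mul_assoc, hIx, ← mul_assoc, h.eq, mul_assoc]
    have hd := I.2
    have ex := congrArg (fun A : SpecialLinearGroup (Fin 2) K => (A : Matrix (Fin 2) (Fin 2) K)) hIx
    have ey := congrArg (fun A : SpecialLinearGroup (Fin 2) K => (A : Matrix (Fin 2) (Fin 2) K)) hIy
    simp only [Matrix.SpecialLinearGroup.coe_mul, hx, hy, val_upp, val_lo] at ex ey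
    rw [det_fin_two] at hd
    have x00 := congrFun₂ ex 0 0
    have x01 := congrFun₂ ex 0 1
    have y01 := congrFun₂ ey 1 1
    simp [Matrix.mul_apply, Fin.sum_univ_two] at x00 x01 y01
    refine hI1 (Subtype.ext ?_)
    set a00 := (I : Matrix (Fin 2) (Fin 2) K) 0 0 with e00
    set a01 := (I : Matrix (Fin 2) (Fin 2) K) 0 1 with e01
    set a10 := (I : Matrix (Fin 2) (Fin 2) K) 1 0 with e10
    set a11 := (I : Matrix (Fin 2) (Fin 2) K) 1 1 with e11
    have h10 : a10 = 0 := x00
    have heq : a00 = a11 := by linear_combination -x01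
    have h01 : a01 = 0 := y01.resolve_left hb
    have h11 : a11 = 1 := by
      rw [h10, heq, mul_zero, sub_zero] at hd
      rcases mul_self_eq_mul_self_iff.1 (show a11 * a11 = 1 * 1 by rw [hd, one_mul]) with h | h
      · exact h
      · rw [h, CharTwo.neg_eq]
    ext i j
    fin_cases i <;> fin_cases j <;> simp [← e00, ← e01, ← e10, ← e11, h10, h01, heq, h11]
  obtain ⟨k, hk⟩ := hodd
  set d := R ^ (k + 1) with hd
  have hdH : d ∈ H := pow_mem (H.mul_mem hl hu) _
  have hxR : x * R ^ (k + 1) = (R ^ (k + 1))⁻¹ * x := by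
    have hxR' : x * R * x⁻¹ = R⁻¹ := by
      rw [hR, _root_.mul_inv_rev, inv_eq_of_mul_eq_one_right hxx, inv_eq_of_mul_eq_one_right hyy,
        mul_assoc, mul_assoc, hxx, mul_one]
    rw [← mul_inv_eq_iff_eq_mul, ← conj_pow, hxR', inv_pow]
  have hdx : d * x = y * d := by
    have h2k : R ^ (k + 1) * R ^ (k + 1) = R := by
      rw [← pow_add, show k + 1 + (k + 1) = orderOf R + 1 by omega, pow_succ, pow_orderOf_eq_one, one_mul]
    have hyR : y = R * x := by rw [hR, mul_assoc, hxx, mul_one]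
    rw [hd, hyR, mul_assoc, hxR, ← mul_assoc]
    nth_rewrite 2 [← h2k]
    rw [mul_assoc (R ^ (k + 1)), mul_inv_cancel, mul_one]
  refine ⟨d, hdH, ?_⟩
  have e := congrArg (fun A : SpecialLinearGroup (Fin 2) K => (A : Matrix (Fin 2) (Fin 2) K)) hdx
  simp only [Matrix.SpecialLinearGroup.coe_mul, hx, hy, val_upp, val_lo] at e
  have e01 := congrFun₂ e 0 1
  have e11 := congrFun₂ e 1 1
  simp [Matrix.mul_apply, Fin.sum_univ_two] at e01 e11
  have hdet := d.2
  rw [det_fin_two] at hdet
  refine ⟨e01, ?_⟩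
  rw [e01, zero_mul, zero_sub] at hdet
  linear_combination ((d : Matrix (Fin 2) (Fin 2) K) 1 0) * e11 - b * hdet - b * h2

omit [Finite K] in
theorem conj_upp (d : SpecialLinearGroup (Fin 2) K) (h : (d : Matrix (Fin 2) (Fin 2) K) 0 0 = 0) (c : K) :
    d * upp c = lo (-((d : Matrix (Fin 2) (Fin 2) K) 1 0 ^ 2) * c) * d := by
  have hd := d.2
  rw [det_fin_two, h, zero_mul, zero_sub] at hd
  refine Subtype.ext ?_
  simp only [Matrix.SpecialLinearGroup.coe_mul, val_upp, val_lo]
  ext i j
  fin_cases i <;> fin_cases j <;> simp [Matrix.mul_apply, Fin.sum_univ_two, h]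
  linear_combination (-(c * (d : Matrix (Fin 2) (Fin 2) K) 1 0)) * hd

/-- `upp 1`, `lo b₁` and `lo b₂` with `b₂ / b₁` generating the field. -/
theorem eq_top_of_three (h2 : (2 : K) = 0) {b1 b2 : K} (hb1 : b1 ≠ 0) (hb2 : b2 ≠ 0)
    (hgen : ∀ L : Subfield K, b2 / b1 ∈ L → L = ⊤) (H : Subgroup (SpecialLinearGroup (Fin 2) K))
    (hu : upp 1 ∈ H) (h1 : lo b1 ∈ H) (h3 : lo b2 ∈ H) : H = ⊤ := by
  haveI : CharP K 2 := CharTwo.of_one_ne_zero_of_two_eq_zero one_ne_zero h2
  haveI : Fintype K := Fintype.ofFinite K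
  obtain ⟨d1, hd1, e1, f1⟩ := exists_swap h2 hb1 H hu h1
  obtain ⟨d2, hd2, e2, f2⟩ := exists_swap h2 hb2 H hu h3
  have k1 : ∀ c, upp c ∈ H → lo (b1 * c) ∈ H := fun c hc => by
    have h : lo (b1 * c) = d1 * upp c * d1⁻¹ := by
      rw [eq_mul_inv_iff_mul_eq, conj_upp d1 e1, f1, CharTwo.neg_eq]
    rw [h]; exact H.mul_mem (H.mul_mem hd1 hc) (H.inv_mem hd1)
  have k1' : ∀ c, lo (b1 * c) ∈ H → upp c ∈ H := fun c hc => by
    have h : upp c = d1⁻¹ * lo (b1 * c) * d1 := by
      rw [mul_assoc, eq_inv_mul_iff_mul_eq, conj_upp d1 e1, f1, CharTwo.neg_eq]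
    rw [h]; exact H.mul_mem (H.mul_mem (H.inv_mem hd1) hc) hd1
  have k2 : ∀ c, upp c ∈ H → lo (b2 * c) ∈ H := fun c hc => by
    have h : lo (b2 * c) = d2 * upp c * d2⁻¹ := by
      rw [eq_mul_inv_iff_mul_eq, conj_upp d2 e2, f2, CharTwo.neg_eq]
    rw [h]; exact H.mul_mem (H.mul_mem hd2 hc) (H.inv_mem hd2)
  have hadd : ∀ a c, upp a ∈ H → upp c ∈ H → upp (a + c) ∈ H := fun a c ha hc => by
    have h : upp (a + c) = upp a * upp c := Subtype.ext (by
      show _ = !![(1 : K), a; 0, 1] * !![1, c; 0, 1]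
      rw [mul_fin_two, val_upp]; simp [add_comm])
    rw [h]; exact H.mul_mem ha hc
  have h0 : upp (0 : K) ∈ H := by
    have h : upp (0 : K) = 1 := Subtype.ext (by rw [val_upp, Matrix.SpecialLinearGroup.coe_one, one_fin_two])
    rw [h]; exact H.one_mem
  let S : Set K := {x | ∀ c, upp c ∈ H → upp (x * c) ∈ H}
  let R : Subring K :=
    { carrier := S
      one_mem' := fun c hc => by rwa [one_mul]
      zero_mem' := fun c _ => by rw [zero_mul]; exact h0
      mul_mem' := fun {x y} hx hy c hc => by rw [mul_assoc]; exact hx _ (hy c hc)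
      add_mem' := fun {x y} hx hy c hc => by rw [add_mul]; exact hadd _ _ (hx c hc) (hy c hc)
      neg_mem' := fun {x} hx c hc => by rw [CharTwo.neg_eq]; exact hx c hc }
  have hR : b2 / b1 ∈ R := fun c hc => by
    refine k1' _ ?_
    rw [show b1 * (b2 / b1 * c) = b2 * c by field_simp]
    exact k2 c hc
  let L : Subfield K :=
    { R with
      inv_mem' := fun x hx => by
        by_cases hx0 : x = 0
        · rw [hx0, _root_.inv_zero]; exact R.zero_mem
        · have hcard : 2 ≤ Fintype.card K := Fintype.one_lt_card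
          have : x⁻¹ = x ^ (Fintype.card K - 2) := by
            refine inv_eq_of_mul_eq_one_right ?_
            rw [← pow_succ', show Fintype.card K - 2 + 1 = Fintype.card K - 1 by omega,
              FiniteField.pow_card_sub_one_eq_one x hx0]
          rw [this]; exact R.pow_mem hx _ }
  have hall : ∀ c : K, upp c ∈ H := fun c => by
    have hc : c ∈ L := (hgen L hR).symm ▸ Subfield.mem_top c
    simpa using hc 1 hu
  refine Linear.eq_top_of_transvection_mem H fun i j hij c => ?_
  fin_cases i <;> fin_cases j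
  · exact absurd rfl hij
  · convert hall c using 1
    ext a b; fin_cases a <;> fin_cases b <;>
      simp [upp, Matrix.SpecialLinearGroup.transvection, Matrix.transvection, Matrix.single]
  · convert k1 (c / b1) (hall _) using 1
    ext a b; fin_cases a <;> fin_cases b <;>
      simp [lo, Matrix.SpecialLinearGroup.transvection, Matrix.transvection, Matrix.single,
        mul_div_cancel₀ _ hb1]
  · exact absurd rfl hij

end Even

end Cfsg.Agent.Known.SU3
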