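import Cfsg.Agent.Forms.SympGen

/-!
Elements of the Siegel parabolic of `Sp_2n` and a generation criterion: a subgroup containing all the
transvections along the Lagrangian `E` and moving `E` is everything.
-/

set_option autoImplicit false

namespace Cfsg.Agent.Known.SpSpan

open Matrix

variable {F : Type*} [Field F] {n : ℕ}

/-- `diag(P, Q)` with `P Qᵀ = 1`. -/
def blockD (P Q : Matrix (Fin n) (Fin n) F) (h : P * Qᵀ = 1) : symplecticGroup (Fin n) F :=
  ⟨fromBlocks P 0 0 Q, by
    have h' : Q * Pᵀ = 1 := by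
      have := congrArg Matrix.transpose h
      rwa [transpose_mul, transpose_transpose, transpose_one] at this
    rw [SymplecticGroup.mem_iff]
    simp [Matrix.J, fromBlocks_multiply, fromBlocks_transpose, h, h']⟩

theorem val_blockD (P Q : Matrix (Fin n) (Fin n) F) (h : P * Qᵀ = 1) :
    (blockD P Q h : Matrix (Fin n ⊕ Fin n) (Fin n ⊕ Fin n) F) = fromBlocks P 0 0 Q := rfl

theorem levi_aux (P : SpecialLinearGroup (Fin n) F) :
    (P : Matrix (Fin n) (Fin n) F) * ((P⁻¹ : SpecialLinearGroup (Fin n) F) : Matrix (Fin n) (Fin n) F)ᵀᵀ = 1 := by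
  rw [transpose_transpose]
  exact congrArg Subtype.val (mul_inv_cancel P)

/-- The Levi subgroup. -/
def levi : SpecialLinearGroup (Fin n) F →* symplecticGroup (Fin n) F where
  toFun P := blockD (P : Matrix (Fin n) (Fin n) F) ((P⁻¹ : SpecialLinearGroup (Fin n) F) : Matrix (Fin n) (Fin n) F)ᵀ (levi_aux P)
  map_one' := Subtype.ext (by simp [val_blockD])
  map_mul' P Q := Subtype.ext (by
    simp only [val_blockD, Submonoid.coe_mul, fromBlocks_multiply, _root_.mul_inv_rev,
      SpecialLinearGroup.coe_mul, transpose_mul]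
    simp)

theorem val_levi (P : SpecialLinearGroup (Fin n) F) :
    (levi P : Matrix (Fin n ⊕ Fin n) (Fin n ⊕ Fin n) F) =
      fromBlocks (P : Matrix (Fin n) (Fin n) F) 0 0
        ((P⁻¹ : SpecialLinearGroup (Fin n) F) : Matrix (Fin n) (Fin n) F)ᵀ := rfl

open scoped Classical in
/-- The element `[1 S; 0 1]` (the identity if `S` is not symmetric). -/
noncomputable def xS (S : Matrix (Fin n) (Fin n) F) : symplecticGroup (Fin n) F :=
  if h : Sᵀ = S then ⟨fromBlocks 1 S 0 1, by
    rw [SymplecticGroup.mem_iff]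
    simp [Matrix.J, fromBlocks_multiply, fromBlocks_transpose, h]⟩ else 1

theorem val_xS {S : Matrix (Fin n) (Fin n) F} (h : Sᵀ = S) :
    (xS S : Matrix (Fin n ⊕ Fin n) (Fin n ⊕ Fin n) F) = fromBlocks 1 S 0 1 := by
  rw [xS, dif_pos h]

theorem xS_add {S S' : Matrix (Fin n) (Fin n) F} (h : Sᵀ = S) (h' : S'ᵀ = S') :
    xS (S + S') = xS S * xS S' :=
  Subtype.ext (by
    rw [val_xS (by rw [transpose_add, h, h']), Submonoid.coe_mul, val_xS h, val_xS h', fromBlocks_multiply]
    simp [add_comm])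

theorem xS_zero : xS (0 : Matrix (Fin n) (Fin n) F) = 1 :=
  Subtype.ext (by rw [val_xS transpose_zero, fromBlocks_one]; rfl)

theorem xS_neg {S : Matrix (Fin n) (Fin n) F} (h : Sᵀ = S) : xS (-S) = (xS S)⁻¹ :=
  eq_inv_of_mul_eq_one_left (by rw [← xS_add (by rw [transpose_neg, h]) h, neg_add_cancel, xS_zero])

theorem conj_symm {P S : Matrix (Fin n) (Fin n) F} (h : Sᵀ = S) : (P * S * Pᵀ)ᵀ = P * S * Pᵀ := by
  rw [transpose_mul, transpose_mul, transpose_transpose, h, Matrix.mul_assoc]

theorem blockD_conj {P Q : Matrix (Fin n) (Fin n) F} (h : P * Qᵀ = 1) {S : Matrix (Fin n) (Fin n) F}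
    (hS : Sᵀ = S) : blockD P Q h * xS S * (blockD P Q h)⁻¹ = xS (P * S * Pᵀ) := by
  rw [mul_inv_eq_iff_eq_mul]
  refine Subtype.ext ?_
  have h' : Pᵀ * Q = 1 := by
    have := congrArg Matrix.transpose (mul_eq_one_comm.1 h)
    rwa [transpose_mul, transpose_transpose, transpose_one] at this
  simp only [Submonoid.coe_mul, val_blockD, val_xS hS, val_xS (conj_symm hS), fromBlocks_multiply]
  simp [Matrix.mul_assoc, h']

theorem levi_conj (P : SpecialLinearGroup (Fin n) F) {S : Matrix (Fin n) (Fin n) F} (hS : Sᵀ = S) :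
    levi P * xS S * (levi P)⁻¹ =
      xS ((P : Matrix (Fin n) (Fin n) F) * S * (P : Matrix (Fin n) (Fin n) F)ᵀ) := blockD_conj (levi_aux P) hS

/-- A levi element fixing `S` commutes with `xS S`. -/
theorem levi_commute {P : SpecialLinearGroup (Fin n) F} {S : Matrix (Fin n) (Fin n) F} (hS : Sᵀ = S)
    (h : (P : Matrix (Fin n) (Fin n) F) * S * (P : Matrix (Fin n) (Fin n) F)ᵀ = S) :
    Commute (levi P) (xS S) := by
  have := levi_conj P hS
  rw [h, mul_inv_eq_iff_eq_mul] at this
  exact this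

/-- A transvection. -/
def tr (w : Fin n ⊕ Fin n → F) (c : F) : symplecticGroup (Fin n) F :=
  ⟨_, Forms.sympTransvection_mem w c⟩

theorem tr_conj (g : symplecticGroup (Fin n) F) (w : Fin n ⊕ Fin n → F) (c : F) :
    g * tr w c * g⁻¹ = tr ((g : Matrix (Fin n ⊕ Fin n) (Fin n ⊕ Fin n) F) *ᵥ w) c := by
  rw [mul_inv_eq_iff_eq_mul]
  refine Subtype.ext (Matrix.ext_of_mulVec_single fun i => ?_)
  rw [Submonoid.coe_mul, Submonoid.coe_mul, ← mulVec_mulVec, ← mulVec_mulVec]
  show (g : Matrix (Fin n ⊕ Fin n) (Fin n ⊕ Fin n) F) *ᵥ (Cfsg.sympTransvection n w c *ᵥ _) = Cfsg.sympTransvection n _ c *ᵥ _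
  rw [Forms.sympTransvection_mulVec, Forms.sympTransvection_mulVec,
    Forms.mem_symplecticGroup_iff_sympForm.1 g.2, mulVec_add, mulVec_smul]

theorem tr_eq_xS (x : Fin n → F) (c : F) : tr (Sum.elim x 0) c = xS (c • vecMulVec x x) := by
  refine Subtype.ext ?_
  rw [val_xS (by rw [transpose_smul, transpose_vecMulVec])]
  show Cfsg.sympTransvection n _ c = _
  ext (i | i) (j | j) <;>
    simp [Cfsg.sympTransvection, vecMulVec, Matrix.J, fromBlocks_mulVec, Matrix.neg_mulVec,
      Matrix.one_apply]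

variable (G : Subgroup (symplecticGroup (Fin n) F))

/-- All transvections along `w` lie in `G`. -/
def Full (w : Fin n ⊕ Fin n → F) : Prop := ∀ c : F, tr w c ∈ G

variable {G}

theorem Full.smul {w : Fin n ⊕ Fin n → F} (h : Full G w) (a : F) : Full G (a • w) := fun c => by
  have : tr (a • w) c = tr w (c * a ^ 2) := Subtype.ext (Forms.sympTransvection_smul w a c)
  rw [this]
  exact h _

theorem Full.conj {w : Fin n ⊕ Fin n → F} (h : Full G w) {g : symplecticGroup (Fin n) F} (hg : g ∈ G) :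
    Full G ((g : Matrix (Fin n ⊕ Fin n) (Fin n ⊕ Fin n) F) *ᵥ w) := fun c => by
  rw [← tr_conj]
  exact G.mul_mem (G.mul_mem hg (h c)) (G.inv_mem hg)

theorem Full.comb {a b : Fin n ⊕ Fin n → F} (ha : Full G a) (hb : Full G b)
    (hab : Cfsg.sympForm n F b a ≠ 0) (x y : F) : Full G (x • a + y • b) := by
  by_cases hy : y = 0
  · rw [hy, zero_smul, add_zero]
    exact ha.smul x
  have h := (hb.conj (ha (x / y / Cfsg.sympForm n F b a))).smul y
  have e : ((tr a (x / y / Cfsg.sympForm n F b a) : symplecticGroup (Fin n) F) :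
      Matrix (Fin n ⊕ Fin n) (Fin n ⊕ Fin n) F) *ᵥ b = b + (x / y) • a := by
    show Cfsg.sympTransvection n _ _ *ᵥ b = _
    rw [Forms.sympTransvection_mulVec, div_mul_cancel₀ _ hab]
  rw [e, smul_add, smul_smul, mul_div_cancel₀ _ hy, add_comm] at h
  exact h

theorem form_inl (a : Fin n → F) (x y : Fin n → F) :
    Cfsg.sympForm n F (Sum.elim x y) (Sum.elim a 0) = y ⬝ᵥ a := by
  simp [Forms.sympForm_apply, dotProduct]

theorem form_pair (x y x' y' : Fin n → F) :
    Cfsg.sympForm n F (Sum.elim x y) (Sum.elim x' y') = y ⬝ᵥ x' - x ⬝ᵥ y' := by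
  simp [Forms.sympForm_apply, dotProduct, Finset.sum_sub_distrib]

/-- From one vector outside `E` to its whole coset. -/
theorem coset_full (hE : ∀ x : Fin n → F, Full G (Sum.elim x 0)) {x y : Fin n → F}
    (h : Full G (Sum.elim x y)) (hy : y ≠ 0) (x' : Fin n → F) : Full G (Sum.elim x' y) := by
  classical
  have hstep : ∀ (x : Fin n → F), Full G (Sum.elim x y) → ∀ a : Fin n → F, y ⬝ᵥ a ≠ 0 →
      Full G (Sum.elim (x + a) y) := by
    intro x hx a ha
    have := (hE a).comb hx (by rw [form_inl]; exact ha) 1 1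
    rw [one_smul, one_smul] at this
    have e : Sum.elim a (0 : Fin n → F) + Sum.elim x y = Sum.elim (x + a) y := by
      funext i; rcases i with i | i <;> simp [add_comm]
    rwa [e] at this
  obtain ⟨i, hi⟩ : ∃ i, y i ≠ 0 := Function.ne_iff.mp hy
  set a := x' - x with ha
  by_cases hya : y ⬝ᵥ a = 0
  · have h1 := hstep x h (Pi.single i 1) (by simpa using hi)
    have h2 := hstep _ h1 (a - Pi.single i 1) (by rw [dotProduct_sub, hya]; simpa using hi)
    rwa [add_assoc, add_sub_cancel, ha, add_sub_cancel] at h2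
  · have h1 := hstep x h a hya
    rwa [ha, add_sub_cancel] at h1

variable (G) in
/-- The `f`-parts over which everything is full. -/
def parts (hE : ∀ x : Fin n → F, Full G (Sum.elim x 0)) : Submodule F (Fin n → F) where
  carrier := {y | ∀ x, Full G (Sum.elim x y)}
  zero_mem' := hE
  smul_mem' c y hy x := by
    by_cases hc : c = 0
    · rw [hc, zero_smul]; exact hE x
    · have := (hy (c⁻¹ • x)).smul c
      have e : c • Sum.elim (c⁻¹ • x) y = Sum.elim x (c • y) := by
        funext i; rcases i with i | i <;> simp [hc]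
      rwa [e] at this
  add_mem' {y y'} hy hy' x := by
    classical
    by_cases hy0 : y' = 0
    · rw [hy0, add_zero]; exact hy x
    by_cases hs : y + y' = 0
    · rw [hs]; exact hE x
    obtain ⟨i, hi⟩ : ∃ i, y' i ≠ 0 := Function.ne_iff.mp hy0
    have h := (hy' 0).comb (hy (Pi.single i 1)) (by rw [form_pair]; simpa using hi) 1 1
    rw [one_smul, one_smul] at h
    have e : Sum.elim (0 : Fin n → F) y' + Sum.elim (Pi.single i 1) y = Sum.elim (Pi.single i 1) (y + y') := by
      funext j; rcases j with j | j <;> simp [add_comm]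
    rw [e] at h
    exact coset_full hE h hs x

theorem mem_parts (hE : ∀ x : Fin n → F, Full G (Sum.elim x 0)) {g : symplecticGroup (Fin n) F} (hg : g ∈ G)
    (w : Fin n ⊕ Fin n → F) (hw : Full G w) {y : Fin n → F}
    (hy : (fun i => ((g : Matrix (Fin n ⊕ Fin n) (Fin n ⊕ Fin n) F) *ᵥ w) (Sum.inr i)) = y) (hy0 : y ≠ 0) :
    y ∈ parts G hE := by
  intro x
  refine coset_full hE (x := fun i => ((g : Matrix (Fin n ⊕ Fin n) (Fin n ⊕ Fin n) F) *ᵥ w) (Sum.inl i)) ?_ hy0 x
  have := hw.conj hg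
  convert this using 1
  funext i
  rcases i with i | i
  · rfl
  · exact (congrFun hy i).symm

theorem parts_blockD (hE : ∀ x : Fin n → F, Full G (Sum.elim x 0)) {P Q : Matrix (Fin n) (Fin n) F}
    {h : P * Qᵀ = 1} {S : Matrix (Fin n) (Fin n) F} (hS : Sᵀ = S) (hg : blockD P Q h * xS S ∈ G)
    {y : Fin n → F} (hy : y ∈ parts G hE) (hy0 : Q *ᵥ y ≠ 0) : Q *ᵥ y ∈ parts G hE := by
  refine mem_parts hE hg (Sum.elim 0 y) (hy 0) ?_ hy0
  funext i
  simp [val_blockD, val_xS hS, fromBlocks_multiply, fromBlocks_mulVec]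

/-- The generation criterion. -/
theorem eq_top_of_parts (hE : ∀ x : Fin n → F, Full G (Sum.elim x 0)) (h : parts G hE = ⊤) : G = ⊤ := by
  rw [eq_top_iff, ← Forms.sympTransvectionClosure_eq_top, Forms.sympTransvectionClosure, Subgroup.closure_le]
  rintro A ⟨w, c, hA⟩
  have : A = tr w c := Subtype.ext hA
  rw [this, ← Sum.elim_comp_inl_inr w]
  have hw : (w ∘ Sum.inr) ∈ parts G hE := h ▸ Submodule.mem_top
  exact hw _ c

end Cfsg.Agent.Known.SpSpan
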