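import Mathlib

/-!
Sylow 2-subgroups of symmetric groups, and of alternating groups of degree at least 6,
are their own normalizers.
-/

set_option autoImplicit false

namespace Cfsg.Agent.Known

/-- Every Sylow `p`-subgroup is its own normalizer. -/
def SylowSelfNormalizing (p : ℕ) (G : Type*) [Group G] : Prop :=
  ∀ P : Sylow p G, Subgroup.normalizer ((P : Subgroup G) : Set G) ≤ (P : Subgroup G)

section General

variable {p : ℕ} [Fact p.Prime] {G : Type*} [Group G] [Finite G]

theorem sylowSelfNormalizing_of_exists (P : Sylow p G)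
    (h : Subgroup.normalizer ((P : Subgroup G) : Set G) ≤ (P : Subgroup G)) :
    SylowSelfNormalizing p G := by
  intro Q x hx
  obtain ⟨g, rfl⟩ := MulAction.exists_smul_eq G P Q
  have hx' : g⁻¹ * x * g ∈ Subgroup.normalizer ((P : Subgroup G) : Set G) := by
    refine Sylow.smul_eq_iff_mem_normalizer.mp ?_
    rw [mul_smul, mul_smul, Sylow.smul_eq_iff_mem_normalizer.mpr hx, inv_smul_smul]
  have h2 := h hx'
  rw [Sylow.coe_subgroup_smul, Subgroup.mem_pointwise_smul_iff_inv_smul_mem]
  simpa [MulAut.smul_def] using h2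

theorem SylowSelfNormalizing.of_equiv {H : Type*} [Group H] [Finite H] (e : H ≃* G)
    (h : SylowSelfNormalizing p G) : SylowSelfNormalizing p H := by
  intro P x hx
  have hs : Function.Surjective e.toMonoidHom := e.surjective
  have h1 : e x ∈ Subgroup.normalizer
      (((P.mapSurjective hs : Sylow p G) : Subgroup G) : Set G) := by
    rw [Subgroup.mem_normalizer_iff]
    intro y
    obtain ⟨z, rfl⟩ := e.surjective y
    rw [Sylow.coe_mapSurjective, ← map_inv e, ← map_mul, ← map_mul]
    simp only [Subgroup.mem_map, MulEquiv.coe_toMonoidHom, EmbeddingLike.apply_eq_iff_eq,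
      exists_eq_right]
    exact Subgroup.mem_normalizer_iff.mp hx z
  have h2 := h _ h1
  rw [Sylow.coe_mapSurjective] at h2
  obtain ⟨y, hy, hxy⟩ := Subgroup.mem_map.mp h2
  exact e.injective hxy ▸ hy

/-- Reduction: a subgroup `C` of index prime to `p` with a `p`-group normal subgroup `ker π`
which is moved out of `C` by every element outside `C`. -/
theorem sylowSelfNormalizing_of_reduction {Q : Type*} [Group Q] [Finite Q] (C : Subgroup G)
    (hidx : ¬ p ∣ C.index) (π : C →* Q) (hπ : Function.Surjective π) (hK : IsPGroup p π.ker)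
    (hQ : SylowSelfNormalizing p Q)
    (hrig : ∀ x : G, (∀ c : C, π c = 1 → x * (c : G) * x⁻¹ ∈ C) → x ∈ C) :
    SylowSelfNormalizing p G := by
  obtain ⟨S₀⟩ : Nonempty (Sylow p C) := inferInstance
  have hcard : ¬ p ∣ ((S₀ : Subgroup C).map C.subtype).index := by
    rw [Subgroup.index_map_subtype]
    exact fun hd => ((Fact.out : p.Prime).dvd_mul.mp hd).elim S₀.not_dvd_index hidx
  have hPgroup : IsPGroup p ((S₀ : Subgroup C).map C.subtype : Subgroup G) := S₀.2.map _
  let P : Sylow p G := hPgroup.toSylow hcard
  have hP : (P : Subgroup G) = (S₀ : Subgroup C).map C.subtype := rfl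
  refine sylowSelfNormalizing_of_exists P ?_
  have hkS : π.ker ≤ (S₀ : Subgroup C) := by
    have h1 : IsPGroup p ((S₀ : Subgroup C) ⊔ π.ker : Subgroup C) :=
      S₀.2.to_sup_of_normal_right hK
    exact le_trans le_sup_right (S₀.3 h1 le_sup_left).le
  intro x hx
  have hmem : ∀ c : C, c ∈ (S₀ : Subgroup C) ↔ (c : G) ∈ (P : Subgroup G) := by
    intro c
    rw [hP]
    simp [Subgroup.mem_map]
  have hxC : x ∈ C := by
    refine hrig x fun c hc => ?_
    have h1 : x * (c : G) * x⁻¹ ∈ (P : Subgroup G) :=
      (Subgroup.mem_normalizer_iff.mp hx _).mp ((hmem c).mp (hkS hc))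
    rw [hP] at h1
    obtain ⟨d, _, hd⟩ := Subgroup.mem_map.mp h1
    exact hd ▸ d.2
  set x' : C := ⟨x, hxC⟩
  have hxS : x' ∈ Subgroup.normalizer ((S₀ : Subgroup C) : Set C) := by
    rw [Subgroup.mem_normalizer_iff]
    intro c
    rw [hmem, hmem]
    exact Subgroup.mem_normalizer_iff.mp hx _
  have hsat : ∀ c : C, π c ∈ (S₀ : Subgroup C).map π → c ∈ (S₀ : Subgroup C) := by
    intro c hc
    have : c ∈ ((S₀ : Subgroup C).map π).comap π := hc
    rwa [Subgroup.comap_map_eq, sup_eq_left.mpr hkS] at this
  have hxQ : π x' ∈ Subgroup.normalizer (((S₀.mapSurjective hπ : Sylow p Q) : Subgroup Q) : Set Q) := by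
    rw [Subgroup.mem_normalizer_iff]
    intro y
    obtain ⟨c, rfl⟩ := hπ y
    rw [Sylow.coe_mapSurjective]
    constructor
    · intro hy
      exact ⟨x' * c * x'⁻¹, (Subgroup.mem_normalizer_iff.mp hxS c).mp (hsat c hy), by simp⟩
    · intro hy
      have h1 : π (x' * c * x'⁻¹) ∈ (S₀ : Subgroup C).map π := by simpa using hy
      exact ⟨c, (Subgroup.mem_normalizer_iff.mp hxS c).mpr (hsat _ h1), rfl⟩
  have h2 := hQ _ hxQ
  rw [Sylow.coe_mapSurjective] at h2
  exact (hmem x').mp (hsat x' h2)

end General

/-! ### The pairing model -/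

section Model

variable (k e : ℕ)

/-- `k` pairs and `e` further points. -/
abbrev Pairing : Type := (Fin k × Bool) ⊕ Fin e

/-- The fixed-point-free-on-pairs involution of the model. -/
def pairInv : Equiv.Perm (Pairing k e) :=
  Equiv.sumCongr (Equiv.prodCongr (Equiv.refl _) Equiv.boolNot) (Equiv.refl _)

variable {k e}

@[simp] theorem pairInv_inl (i : Fin k) (b : Bool) :
    pairInv k e (.inl (i, b)) = .inl (i, !b) := rfl

@[simp] theorem pairInv_inr (z : Fin e) : pairInv k e (.inr z) = .inr z := rfl

/-- The centralizer of the pairing involution. -/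
abbrev pairCentralizer (k e : ℕ) : Subgroup (Equiv.Perm (Pairing k e)) :=
  Subgroup.centralizer {pairInv k e}

theorem pairInv_fixed_subsingleton (he : e ≤ 1) {y z : Pairing k e}
    (hy : pairInv k e y = y) (hz : pairInv k e z = z) : y = z := by
  have : Subsingleton (Fin e) := Fin.subsingleton_iff_le_one.mpr he
  rcases y with ⟨i, b⟩ | y
  · simp at hy
  rcases z with ⟨j, c⟩ | z
  · simp at hz
  exact congrArg Sum.inr (Subsingleton.elim y z)

theorem mem_pairCentralizer_iff {g : Equiv.Perm (Pairing k e)} :
    g ∈ pairCentralizer k e ↔ ∀ y, g (pairInv k e y) = pairInv k e (g y) := by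
  rw [Subgroup.mem_centralizer_singleton_iff, Equiv.ext_iff]
  exact ⟨fun h y => by simpa using h y, fun h y => by simpa using h y⟩

/-- To commute with the pairing it is enough to respect the moved pairs. -/
theorem mem_pairCentralizer_of_pairs (he : e ≤ 1) {x : Equiv.Perm (Pairing k e)}
    (h : ∀ i : Fin k, pairInv k e (x (.inl (i, false))) = x (.inl (i, true))) :
    x ∈ pairCentralizer k e := by
  have h' : ∀ i : Fin k, pairInv k e (x (.inl (i, true))) = x (.inl (i, false)) := by
    intro i
    rw [← h i]
    generalize x (.inl (i, false)) = y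
    rcases y with ⟨j, b⟩ | y <;> simp
  rw [mem_pairCentralizer_iff]
  rintro (⟨i, _ | _⟩ | z)
  · simpa using (h i).symm
  · simpa using (h' i).symm
  · rw [pairInv_inr]
    symm
    obtain ⟨y, hy⟩ := x.surjective (pairInv k e (x (.inr z)))
    rcases y with ⟨i, _ | _⟩ | z'
    · exfalso
      have := congrArg (pairInv k e) hy
      rw [h i] at this
      generalize hw : x (.inr z) = w at this
      have hww : x (.inl (i, true)) = w := by
        rcases w with ⟨j, b⟩ | w <;> simpa using this
      exact absurd (x.injective (hww.trans hw.symm)) (by simp)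
    · exfalso
      have := congrArg (pairInv k e) hy
      rw [h' i] at this
      generalize hw : x (.inr z) = w at this
      have hww : x (.inl (i, false)) = w := by
        rcases w with ⟨j, b⟩ | w <;> simpa using this
      exact absurd (x.injective (hww.trans hw.symm)) (by simp)
    · have : Subsingleton (Fin e) := Fin.subsingleton_iff_le_one.mpr he
      rw [← hy, Subsingleton.elim z' z]

theorem commute_swap_forces_pair (he : e ≤ 1) {A A' : Pairing k e} (hne : A ≠ A')
    (h : Equiv.swap A A' ∈ pairCentralizer k e) : pairInv k e A = A' := by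
  have h1 := mem_pairCentralizer_iff.mp h A
  rw [Equiv.swap_apply_left] at h1
  have hinj : pairInv k e A ≠ pairInv k e A' := fun h' => hne ((pairInv k e).injective h')
  by_contra hc
  by_cases hA : pairInv k e A = A
  · rw [hA, Equiv.swap_apply_left] at h1
    exact hne (pairInv_fixed_subsingleton he hA h1.symm)
  · rw [Equiv.swap_apply_of_ne_of_ne hA hc] at h1
    exact hinj h1

theorem commute_swap_swap_forces (he : e ≤ 1) {A A' B B' : Pairing k e} (hne : A ≠ A')
    (hAB : A ≠ B) (hAB' : A ≠ B') (hA'B : A' ≠ B) (hA'B' : A' ≠ B')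
    (h : Equiv.swap A A' * Equiv.swap B B' ∈ pairCentralizer k e) :
    pairInv k e A = A' ∨ pairInv k e A = B ∨ pairInv k e A = B' := by
  have h1 := mem_pairCentralizer_iff.mp h A
  simp only [Equiv.Perm.mul_apply, Equiv.swap_apply_of_ne_of_ne hAB hAB',
    Equiv.swap_apply_left] at h1
  by_contra hc
  push_neg at hc
  obtain ⟨hc1, hc2, hc3⟩ := hc
  rw [Equiv.swap_apply_of_ne_of_ne hc2 hc3] at h1
  by_cases hA : pairInv k e A = A
  · rw [hA, Equiv.swap_apply_left] at h1
    exact hne (pairInv_fixed_subsingleton he hA h1.symm)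
  · rw [Equiv.swap_apply_of_ne_of_ne hA hc1] at h1
    exact hne ((pairInv k e).injective h1)

/-- The pair containing the image of a pair. -/
def pairImage (g : Equiv.Perm (Pairing k e)) (i : Fin k) : Fin k :=
  match g (.inl (i, false)) with
  | .inl p => p.1
  | .inr _ => i

theorem pairImage_spec {g : Equiv.Perm (Pairing k e)} (hg : g ∈ pairCentralizer k e) (i : Fin k)
    (b : Bool) : ∃ c, g (.inl (i, b)) = .inl (pairImage g i, c) := by
  have h := mem_pairCentralizer_iff.mp hg (.inl (i, false))
  unfold pairImage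
  generalize hw : g (.inl (i, false)) = w at h ⊢
  rcases w with ⟨j, c⟩ | z
  · cases b
    · exact ⟨c, hw⟩
    · exact ⟨!c, by simpa using h⟩
  · exfalso
    have : g (.inl (i, true)) = g (.inl (i, false)) := by rw [hw]; simpa using h
    simpa using g.injective this

theorem pairImage_mul {g h : Equiv.Perm (Pairing k e)} (hg : g ∈ pairCentralizer k e)
    (hh : h ∈ pairCentralizer k e) (i : Fin k) :
    pairImage (g * h) i = pairImage g (pairImage h i) := by
  obtain ⟨c, hc⟩ := pairImage_spec hh i false
  obtain ⟨d, hd⟩ := pairImage_spec hg (pairImage h i) c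
  obtain ⟨d', hd'⟩ := pairImage_spec (mul_mem hg hh) i false
  rw [Equiv.Perm.mul_apply, hc, hd] at hd'
  exact (congrArg Prod.fst (Sum.inl_injective hd')).symm

theorem pairImage_one (i : Fin k) : pairImage (1 : Equiv.Perm (Pairing k e)) i = i := rfl

/-- The action of the centralizer on the pairs. -/
def pairHom (k e : ℕ) : pairCentralizer k e →* Equiv.Perm (Fin k) :=
  MonoidHom.mk'
    (fun g =>
      { toFun := pairImage (g : Equiv.Perm (Pairing k e))
        invFun := pairImage ((g⁻¹ : pairCentralizer k e) : Equiv.Perm (Pairing k e))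
        left_inv := fun i => by
          rw [← pairImage_mul (g⁻¹).2 g.2, ← Subgroup.coe_mul, inv_mul_cancel, Subgroup.coe_one,
            pairImage_one]
        right_inv := fun i => by
          rw [← pairImage_mul g.2 (g⁻¹).2, ← Subgroup.coe_mul, mul_inv_cancel, Subgroup.coe_one,
            pairImage_one] })
    (fun g h => Equiv.ext fun i => pairImage_mul g.2 h.2 i)

theorem pairHom_apply (g : pairCentralizer k e) (i : Fin k) :
    pairHom k e g i = pairImage (g : Equiv.Perm (Pairing k e)) i := rfl

/-- A permutation of the pairs, lifted. -/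
def pairLift (τ : Equiv.Perm (Fin k)) : Equiv.Perm (Pairing k e) :=
  Equiv.sumCongr (Equiv.prodCongrLeft (fun _ : Bool => τ)) (Equiv.refl _)

theorem pairLift_mem (τ : Equiv.Perm (Fin k)) : (pairLift τ : Equiv.Perm (Pairing k e)) ∈
    pairCentralizer k e := by
  rw [mem_pairCentralizer_iff]
  rintro (⟨i, b⟩ | z) <;> rfl

theorem pairHom_pairLift (τ : Equiv.Perm (Fin k)) :
    pairHom k e ⟨pairLift τ, pairLift_mem τ⟩ = τ := Equiv.ext fun _ => rfl

theorem pairHom_surjective : Function.Surjective (pairHom k e) :=
  fun τ => ⟨_, pairHom_pairLift τ⟩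

theorem sign_pairLift (τ : Equiv.Perm (Fin k)) :
    Equiv.Perm.sign (pairLift τ : Equiv.Perm (Pairing k e)) = 1 := by
  rw [pairLift, Equiv.Perm.sign_sumCongr, Equiv.Perm.sign_prodCongrLeft]
  simp [Fintype.prod_bool, Int.units_mul_self]

theorem pairHom_ker_sq (he : e ≤ 1) {g : pairCentralizer k e} (hg : pairHom k e g = 1) :
    (g : Equiv.Perm (Pairing k e)) * (g : Equiv.Perm (Pairing k e)) = 1 := by
  set x := (g : Equiv.Perm (Pairing k e))
  have himg : ∀ i, pairImage x i = i := fun i => by
    rw [← pairHom_apply, hg]; rfl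
  have hspec : ∀ i b, ∃ c, x (.inl (i, b)) = .inl (i, c) := fun i b => by
    obtain ⟨c, hc⟩ := pairImage_spec g.2 i b
    exact ⟨c, by rw [hc, himg]⟩
  have hinl : ∀ i b, x (x (.inl (i, b))) = .inl (i, b) := by
    intro i b
    obtain ⟨c, hc⟩ := hspec i b
    by_cases hcb : c = b
    · subst hcb
      rw [hc, hc]
    · have hc' : c = !b := by cases b <;> cases c <;> simp at hcb ⊢
      obtain ⟨d, hd⟩ := hspec i c
      rw [hc, hd]
      have hdc : d ≠ c := fun h => by
        have h' := x.injective (a₁ := .inl (i, b)) (a₂ := .inl (i, c)) (by rw [hc, hd, h])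
        exact hcb (congrArg Prod.snd (Sum.inl_injective h')).symm
      cases b <;> cases c <;> cases d <;> first | rfl | exact absurd rfl hcb | exact absurd rfl hdc
  refine Equiv.ext fun y => ?_
  rcases y with ⟨i, b⟩ | z
  · exact hinl i b
  · have : Subsingleton (Fin e) := Fin.subsingleton_iff_le_one.mpr he
    obtain ⟨w, hw⟩ : ∃ w, x (.inr z) = .inr w := by
      rcases hx : x (.inr z) with ⟨i, b⟩ | w
      · exfalso
        obtain ⟨c, hc⟩ := hspec i b
        have h1 := congrArg x hc
        rw [hinl] at h1
        have h2 := x.injective (h1.symm.trans hx.symm)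
        simp at h2
      · exact ⟨w, rfl⟩
    rw [Subsingleton.elim w z] at hw
    simp [hw]

theorem isPGroup_pairHom_ker (he : e ≤ 1) : IsPGroup 2 (pairHom k e).ker := by
  rintro ⟨g, hg⟩
  refine ⟨1, ?_⟩
  ext1
  ext1
  rw [pow_one, Subgroup.coe_pow, pow_two]
  exact pairHom_ker_sq he hg

/-- Flipping the pairs marked `true`. -/
def pairFlip (f : Fin k → Bool) : Equiv.Perm (Pairing k e) :=
  Equiv.sumCongr (Equiv.prodCongrRight fun i => if f i then Equiv.boolNot else Equiv.refl Bool)
    (Equiv.refl _)

theorem pairFlip_inl (f : Fin k → Bool) (i : Fin k) (b : Bool) :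
    (pairFlip f : Equiv.Perm (Pairing k e)) (.inl (i, b)) = .inl (i, xor b (f i)) := by
  cases h : f i <;> cases b <;> simp [pairFlip, h]

theorem pairFlip_mem (f : Fin k → Bool) :
    (pairFlip f : Equiv.Perm (Pairing k e)) ∈ pairCentralizer k e := by
  rw [mem_pairCentralizer_iff]
  rintro (⟨i, b⟩ | z)
  · simp only [pairInv_inl, pairFlip_inl]
    cases b <;> cases f i <;> rfl
  · rfl

theorem pairHom_pairFlip (f : Fin k → Bool) :
    pairHom k e ⟨pairFlip f, pairFlip_mem f⟩ = 1 := by
  refine Equiv.ext fun i => ?_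
  rw [pairHom_apply]
  simp [pairImage, pairFlip_inl]

theorem not_two_dvd_pairCentralizer_index (he : e ≤ 1) : ¬ 2 ∣ (pairCentralizer k e).index := by
  intro hd
  obtain ⟨j, hj⟩ := IsPGroup.iff_card.mp (isPGroup_pairHom_ker (k := k) he)
  have hinj : Function.Injective
      (fun f : Fin k → Bool => (⟨⟨pairFlip f, pairFlip_mem f⟩, pairHom_pairFlip f⟩ :
        (pairHom k e).ker)) := by
    intro f f' h
    funext i
    have h1 := congrArg (fun g : (pairHom k e).ker =>
      ((g : pairCentralizer k e) : Equiv.Perm (Pairing k e)) (.inl (i, false))) h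
    simpa [pairFlip_inl] using h1
  have hjk : 2 ^ k ≤ 2 ^ j := by
    rw [← hj]
    simpa [Nat.card_eq_fintype_card] using Nat.card_le_card_of_injective _ hinj
  have hkj : k ≤ j := (Nat.pow_le_pow_iff_right (by norm_num)).mp hjk
  have hC : Nat.card (pairCentralizer k e) = 2 ^ j * k.factorial := by
    rw [← (pairHom k e).ker.card_mul_index, hj, Subgroup.index_ker,
      MonoidHom.range_eq_top_of_surjective _ pairHom_surjective, Subgroup.card_top]
    simp [Nat.card_eq_fintype_card, Fintype.card_perm]
  have hfac := (pairCentralizer k e).card_mul_index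
  rw [hC, Nat.card_eq_fintype_card (α := Equiv.Perm (Pairing k e)), Fintype.card_perm] at hfac
  have hn : Fintype.card (Pairing k e) = 2 * k + e := by simp [mul_comm]
  rw [hn] at hfac
  have hi0 : (pairCentralizer k e).index ≠ 0 := Subgroup.index_ne_zero_of_finite
  have hv := congrArg (padicValNat 2) hfac
  rw [padicValNat_factorial_mul_add k (by omega : e < 2), padicValNat_factorial_mul,
    padicValNat.mul (by positivity) hi0, padicValNat.mul (by positivity) k.factorial_ne_zero,
    padicValNat.prime_pow] at hv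
  have := one_le_padicValNat_of_dvd hi0 hd
  omega

theorem sylowSelfNormalizing_perm_pairing (he : e ≤ 1)
    (hQ : SylowSelfNormalizing 2 (Equiv.Perm (Fin k))) :
    SylowSelfNormalizing 2 (Equiv.Perm (Pairing k e)) := by
  refine sylowSelfNormalizing_of_reduction (pairCentralizer k e)
    (not_two_dvd_pairCentralizer_index he) (pairHom k e) pairHom_surjective
    (isPGroup_pairHom_ker he) hQ ?_
  intro x hx
  refine mem_pairCentralizer_of_pairs he fun i => ?_
  have hflip : (pairFlip (fun l => decide (l = i)) : Equiv.Perm (Pairing k e))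
      = Equiv.swap (.inl (i, false)) (.inl (i, true)) := by
    refine Equiv.ext ?_
    rintro (⟨j, b⟩ | z)
    · rw [pairFlip_inl]
      by_cases hji : j = i
      · subst hji
        cases b <;> simp
      · rw [Equiv.swap_apply_of_ne_of_ne (by simp [hji]) (by simp [hji])]
        simp [hji]
    · rfl
  have h1 := hx ⟨_, pairFlip_mem (fun l => decide (l = i))⟩ (pairHom_pairFlip _)
  rw [show (((⟨_, pairFlip_mem (fun l => decide (l = i))⟩ : pairCentralizer k e)) :
    Equiv.Perm (Pairing k e)) = pairFlip (fun l => decide (l = i)) from rfl, hflip,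
    ← Equiv.swap_apply_apply] at h1
  exact commute_swap_forces_pair he (by simp) h1

theorem sylowSelfNormalizing_alternating_pairing (he : e ≤ 1) (hk : 3 ≤ k)
    (hQ : SylowSelfNormalizing 2 (Equiv.Perm (Fin k))) :
    SylowSelfNormalizing 2 (alternatingGroup (Pairing k e)) := by
  let C := (pairCentralizer k e).subgroupOf (alternatingGroup (Pairing k e))
  let ι : C →* pairCentralizer k e :=
    { toFun := fun c => ⟨((c : alternatingGroup (Pairing k e)) : Equiv.Perm (Pairing k e)), c.2⟩
      map_one' := rfl
      map_mul' := fun _ _ => rfl }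
  have hidx : ¬ 2 ∣ C.index := by
    intro hd
    have hnt : Nontrivial (Pairing k e) :=
      ⟨⟨.inl (⟨0, by omega⟩, false), .inl (⟨0, by omega⟩, true), by simp⟩⟩
    have hA : (alternatingGroup (Pairing k e)).index = 2 := alternatingGroup.index_eq_two
    have hr : C.index = (pairCentralizer k e).relIndex (alternatingGroup (Pairing k e)) := rfl
    have h1 := Subgroup.relIndex_mul_index
      (inf_le_right : pairCentralizer k e ⊓ alternatingGroup (Pairing k e) ≤ _)
    rw [Subgroup.inf_relIndex_right, hA, ← hr] at h1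
    have h2 := Subgroup.relIndex_mul_index
      (inf_le_left : pairCentralizer k e ⊓ alternatingGroup (Pairing k e) ≤ _)
    rw [Subgroup.inf_relIndex_left] at h2
    have ha : (alternatingGroup (Pairing k e)).relIndex (pairCentralizer k e) ∣ 2 :=
      hA ▸ Subgroup.relIndex_dvd_index_of_normal _ _
    have hodd := not_two_dvd_pairCentralizer_index (k := k) he
    rcases (Nat.dvd_prime Nat.prime_two).mp ha with h | h <;> rw [h] at h2
    · exact hodd ⟨C.index, by rw [← one_mul (pairCentralizer k e).index, h2, ← h1, mul_comm]⟩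
    · apply hodd
      rw [show (pairCentralizer k e).index = C.index by
        apply Nat.eq_of_mul_eq_mul_left (show 0 < 2 by norm_num)
        rw [h2, ← h1, mul_comm]]
      exact hd
  have hsurj : Function.Surjective ((pairHom k e).comp ι) := fun τ =>
    ⟨⟨⟨pairLift τ, Equiv.Perm.mem_alternatingGroup.mpr (sign_pairLift τ)⟩, pairLift_mem τ⟩,
      pairHom_pairLift τ⟩
  have hker : IsPGroup 2 ((pairHom k e).comp ι).ker := by
    rintro ⟨g, hg⟩
    refine ⟨1, ?_⟩
    ext1; ext1; ext1
    rw [pow_one, Subgroup.coe_pow, pow_two]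
    exact pairHom_ker_sq he (g := ι g) hg
  refine sylowSelfNormalizing_of_reduction C hidx _ hsurj hker hQ ?_
  intro x hx
  show (x : Equiv.Perm (Pairing k e)) ∈ pairCentralizer k e
  refine mem_pairCentralizer_of_pairs he fun i => ?_
  have key : ∀ j, j ≠ i →
      pairInv k e ((x : Equiv.Perm (Pairing k e)) (.inl (i, false))) =
        (x : Equiv.Perm (Pairing k e)) (.inl (i, true)) ∨
      ∃ b, pairInv k e ((x : Equiv.Perm (Pairing k e)) (.inl (i, false))) =
        (x : Equiv.Perm (Pairing k e)) (.inl (j, b)) := by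
    intro j hji
    let t : Equiv.Perm (Pairing k e) :=
      Equiv.swap (.inl (i, false)) (.inl (i, true)) * Equiv.swap (.inl (j, false)) (.inl (j, true))
    have hflip : t = pairFlip (fun l => decide (l = i ∨ l = j)) := by
      refine Equiv.ext ?_
      rintro (⟨l, b⟩ | z)
      · rw [pairFlip_inl]
        by_cases hli : l = i
        · subst hli
          cases b <;> simp [t, Equiv.swap_apply_def, Ne.symm hji]
        · by_cases hlj : l = j
          · subst hlj
            cases b <;> simp [t, Equiv.swap_apply_def, hli]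
          · simp [t, Equiv.swap_apply_def, hli, hlj]
      · simp [t, Equiv.swap_apply_def, pairFlip]
    have htA : t ∈ alternatingGroup (Pairing k e) := by
      rw [Equiv.Perm.mem_alternatingGroup]
      simp [t]
    have htC : (⟨t, htA⟩ : alternatingGroup (Pairing k e)) ∈ C :=
      show t ∈ pairCentralizer k e from hflip ▸ pairFlip_mem _
    have h1 := hx ⟨⟨t, htA⟩, htC⟩ (by
      show pairHom k e (ι ⟨⟨t, htA⟩, htC⟩) = 1
      rw [← pairHom_pairFlip (e := e) (fun l => decide (l = i ∨ l = j))]
      exact congrArg _ (Subtype.ext hflip))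
    have h2 : (x : Equiv.Perm (Pairing k e)) * t * (x : Equiv.Perm (Pairing k e))⁻¹ ∈
        pairCentralizer k e := h1
    have h3 : (x : Equiv.Perm (Pairing k e)) * t * (x : Equiv.Perm (Pairing k e))⁻¹ =
        Equiv.swap ((x : Equiv.Perm (Pairing k e)) (.inl (i, false)))
          ((x : Equiv.Perm (Pairing k e)) (.inl (i, true))) *
        Equiv.swap ((x : Equiv.Perm (Pairing k e)) (.inl (j, false)))
          ((x : Equiv.Perm (Pairing k e)) (.inl (j, true))) := by
      rw [Equiv.swap_apply_apply, Equiv.swap_apply_apply]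
      simp only [t]
      group
    rw [h3] at h2
    have hne : ∀ {a b : Pairing k e}, a ≠ b →
        (x : Equiv.Perm (Pairing k e)) a ≠ (x : Equiv.Perm (Pairing k e)) b :=
      fun h => (x : Equiv.Perm (Pairing k e)).injective.ne h
    rcases commute_swap_swap_forces he (hne (by simp)) (hne (by simp [Ne.symm hji]))
      (hne (by simp [Ne.symm hji])) (hne (by simp [Ne.symm hji])) (hne (by simp [Ne.symm hji])) h2
      with h | h | h
    · exact .inl h
    · exact .inr ⟨_, h⟩
    · exact .inr ⟨_, h⟩
  obtain ⟨j, hj, l, hl, hjl⟩ : ∃ j, j ≠ i ∧ ∃ l, l ≠ i ∧ j ≠ l := by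
    have h2 : 1 < ({i}ᶜ : Finset (Fin k)).card := by
      rw [Finset.card_compl, Finset.card_singleton, Fintype.card_fin]; omega
    obtain ⟨j, hj, l, hl, hjl⟩ := Finset.one_lt_card.mp h2
    exact ⟨j, by simpa using hj, l, by simpa using hl, hjl⟩
  rcases key j hj with h | ⟨b, hb⟩
  · exact h
  rcases key l hl with h | ⟨c, hc⟩
  · exact h
  exfalso
  have := (x : Equiv.Perm (Pairing k e)).injective (hb.symm.trans hc)
  simp [hjl] at this

end Model

/-- `Fin n` as a pairing. -/
noncomputable def finPairing (n : ℕ) : Fin n ≃ Pairing (n / 2) (n % 2) :=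
  Fintype.equivOfCardEq (by
    simp only [Fintype.card_fin, Fintype.card_sum, Fintype.card_prod, Fintype.card_bool]
    exact (Nat.div_add_mod' n 2).symm)

/-- Sylow 2-subgroups of symmetric groups are self-normalizing. -/
theorem sylowSelfNormalizing_perm_fin (n : ℕ) : SylowSelfNormalizing 2 (Equiv.Perm (Fin n)) := by
  induction n using Nat.strong_induction_on with
  | _ n ih =>
    rcases lt_or_ge n 2 with hn | hn
    · intro P x _
      have : Subsingleton (Fin n) := Fin.subsingleton_iff_le_one.mpr (by omega)
      rw [Subsingleton.elim x 1]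
      exact one_mem _
    · exact (sylowSelfNormalizing_perm_pairing (by omega) (ih (n / 2) (by omega))).of_equiv
        (Equiv.permCongrHom (finPairing n))

/-- Sylow 2-subgroups of alternating groups of degree at least 6 are self-normalizing. -/
theorem sylowSelfNormalizing_alternating_fin (n : ℕ) (hn : 6 ≤ n) :
    SylowSelfNormalizing 2 (alternatingGroup (Fin n)) :=
  (sylowSelfNormalizing_alternating_pairing (by omega) (by omega)
    (sylowSelfNormalizing_perm_fin (n / 2))).of_equiv (finPairing n).altCongrHom

end Cfsg.Agent.Known
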