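import Mathlib

/-!
Transvections `1 + z ⊗ f` and a generation criterion for `SL_n`.
-/

set_option autoImplicit false

namespace Cfsg.Agent.Known

open Matrix

variable {ι : Type*} [Fintype ι] [DecidableEq ι] {F : Type*} [Field F]

open scoped Classical in
/-- The transvection `1 + z ⊗ f` (the identity if `f z ≠ 0`). -/
noncomputable def tv (z f : ι → F) : SpecialLinearGroup ι F :=
  ⟨if f ⬝ᵥ z = 0 then 1 + vecMulVec z f else 1, by
    split_ifs with h
    · rw [vecMulVec_eq Unit, det_one_add_replicateCol_mul_replicateRow, h, add_zero]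
    · exact det_one⟩

theorem val_tv {z f : ι → F} (h : f ⬝ᵥ z = 0) :
    (tv z f : Matrix ι ι F) = 1 + vecMulVec z f := if_pos h

theorem val_mul (A B : SpecialLinearGroup ι F) :
    Subtype.val (A * B) = (A : Matrix ι ι F) * (B : Matrix ι ι F) := rfl

theorem val_one : Subtype.val (1 : SpecialLinearGroup ι F) = (1 : Matrix ι ι F) := rfl

theorem mul_val_eq (A B : SpecialLinearGroup ι F) :
    (A : Matrix ι ι F) * (B : Matrix ι ι F) = Subtype.val (A * B) := rfl

theorem val_inv_mul (A : SpecialLinearGroup ι F) :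
    ((A⁻¹ : SpecialLinearGroup ι F) : Matrix ι ι F) * (A : Matrix ι ι F) = 1 := by
  rw [mul_val_eq, inv_mul_cancel, val_one]

theorem val_mul_inv (A : SpecialLinearGroup ι F) :
    (A : Matrix ι ι F) * ((A⁻¹ : SpecialLinearGroup ι F) : Matrix ι ι F) = 1 := by
  rw [mul_val_eq, mul_inv_cancel, val_one]

theorem tv_zero_left (f : ι → F) : tv (0 : ι → F) f = 1 :=
  Subtype.ext (by rw [val_tv (dotProduct_zero f)]; simp [vecMulVec, Matrix.of_apply]; ext; simp)

theorem tv_add_left {a b f : ι → F} (ha : f ⬝ᵥ a = 0) (hb : f ⬝ᵥ b = 0) :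
    tv (a + b) f = tv a f * tv b f := by
  refine Subtype.ext ?_
  rw [val_tv (by rw [dotProduct_add, ha, hb, add_zero]), val_mul, val_tv ha,
    val_tv hb, add_mul, one_mul, mul_add, mul_one, vecMulVec_mul_vecMulVec, hb]
  rw [add_vecMulVec]
  ext i j
  simp [vecMulVec]
  ring

theorem tv_smul_swap (c : F) {z f : ι → F} (h : f ⬝ᵥ z = 0) : tv z (c • f) = tv (c • z) f :=
  Subtype.ext (by
    rw [val_tv (by rw [smul_dotProduct, h, smul_zero]), val_tv (by rw [dotProduct_smul, h, smul_zero]),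
      smul_vecMulVec, vecMulVec_smul])

theorem tv_inv {z f : ι → F} (h : f ⬝ᵥ z = 0) : (tv z f)⁻¹ = tv (-z) f := by
  refine inv_eq_of_mul_eq_one_right ?_
  rw [← tv_add_left h (by rw [dotProduct_neg, h, neg_zero]), add_neg_cancel, tv_zero_left]

theorem dot_vecMul_inv_mulVec (M : SpecialLinearGroup ι F) (z f : ι → F) :
    (f ᵥ* ((M⁻¹ : SpecialLinearGroup ι F) : Matrix ι ι F)) ⬝ᵥ ((M : Matrix ι ι F) *ᵥ z) = f ⬝ᵥ z := by
  rw [dotProduct_mulVec, vecMul_vecMul, val_inv_mul, vecMul_one]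

theorem tv_conj (M : SpecialLinearGroup ι F) {z f : ι → F} (h : f ⬝ᵥ z = 0) :
    M * tv z f * M⁻¹ =
      tv ((M : Matrix ι ι F) *ᵥ z) (f ᵥ* ((M⁻¹ : SpecialLinearGroup ι F) : Matrix ι ι F)) := by
  refine Subtype.ext ?_
  rw [val_mul, val_mul, val_tv h,
    val_tv (by rw [dot_vecMul_inv_mulVec, h]), mul_add, add_mul, mul_one,
    val_mul_inv, mul_vecMulVec, vecMulVec_mul]

theorem tv_commutator {a b f g : ι → F} (ha : f ⬝ᵥ a = 0) (hb : g ⬝ᵥ b = 0) (hfb : f ⬝ᵥ b = 0) :
    tv a f * tv b g * (tv a f)⁻¹ * (tv b g)⁻¹ = tv b ((-(g ⬝ᵥ a)) • f) := by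
  rw [mul_inv_eq_iff_eq_mul, mul_inv_eq_iff_eq_mul]
  refine Subtype.ext ?_
  have hk : ((-(g ⬝ᵥ a)) • f) ⬝ᵥ b = 0 := by rw [smul_dotProduct, hfb, smul_zero]
  simp only [val_mul, val_tv ha, val_tv hb, val_tv hk, add_mul, one_mul, mul_add,
    mul_one, vecMulVec_mul_vecMulVec, hk, hfb]
  simp only [vecMulVec]
  ext i j
  simp [ha, hfb, hb]
  ring

theorem transvection_eq_tv {i j : ι} (hij : i ≠ j) (c : F) :
    SpecialLinearGroup.transvection hij c = tv (Pi.single i c) (Pi.single j 1) := by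
  refine Subtype.ext ?_
  rw [val_tv (by simp [hij]), SpecialLinearGroup.transvection_coe]
  congr 1
  ext a b
  simp [vecMulVec, Matrix.single, Pi.single_apply, ← ite_and, eq_comm, and_comm]

/-- The functionals all of whose transvections lie in `G`. -/
noncomputable def fullFunctionals (G : Subgroup (SpecialLinearGroup ι F)) : Submodule F (ι → F) where
  carrier := {f | ∀ z, f ⬝ᵥ z = 0 → tv z f ∈ G}
  zero_mem' z _ := by
    have : tv z (0 : ι → F) = 1 := Subtype.ext (by
      rw [val_tv (zero_dotProduct z)]; ext; simp [vecMulVec])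
    rw [this]
    exact G.one_mem
  smul_mem' c f hf z hz := by
    by_cases hc : c = 0
    · subst hc
      have : tv z ((0 : F) • f) = 1 := Subtype.ext (by
        rw [val_tv hz]; ext; simp [vecMulVec])
      rw [this]
      exact G.one_mem
    · have hz' : f ⬝ᵥ z = 0 := by
        rw [smul_dotProduct, smul_eq_mul] at hz
        exact (mul_eq_zero.mp hz).resolve_left hc
      rw [tv_smul_swap c hz']
      exact hf _ (by rw [dotProduct_smul, hz', smul_zero])
  add_mem' {f g} hf hg z hz := by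
    classical
    by_cases hg0 : g = 0
    · subst hg0
      rw [add_zero] at hz ⊢
      exact hf z hz
    obtain ⟨k, hk⟩ : ∃ k, g k ≠ 0 := Function.ne_iff.mp hg0
    by_cases hprop : ∀ j, f j = f k / g k * g j
    · have hfg : f = (f k / g k) • g := funext fun j => by
        rw [Pi.smul_apply, smul_eq_mul]; exact hprop j
      have hfg' : f + g = (f k / g k + 1) • g := by rw [add_smul, one_smul, ← hfg]
      rw [hfg'] at hz ⊢
      by_cases hc : f k / g k + 1 = 0
      · rw [hc]
        have : tv z ((0 : F) • g) = 1 := Subtype.ext (by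
          rw [val_tv (by rw [zero_smul, zero_dotProduct])]; ext; simp [vecMulVec])
        rw [this]
        exact G.one_mem
      · have hz' : g ⬝ᵥ z = 0 := by
          rw [smul_dotProduct, smul_eq_mul] at hz
          exact (mul_eq_zero.mp hz).resolve_left hc
        rw [tv_smul_swap _ hz']
        exact hg _ (by rw [dotProduct_smul, hz', smul_zero])
    · push Not at hprop
      obtain ⟨j, hj⟩ := hprop
      let w₀ : ι → F := Pi.single j 1 - (g j / g k) • Pi.single k 1
      have hgw : g ⬝ᵥ w₀ = 0 := by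
        simp [w₀, dotProduct_sub, dotProduct_smul, hk]
      have hfw : f ⬝ᵥ w₀ ≠ 0 := by
        simp only [w₀, dotProduct_sub, dotProduct_smul, dotProduct_single, mul_one, smul_eq_mul]
        intro h
        exact hj (by rw [sub_eq_zero.mp h]; ring)
      let w : ι → F := (-(f ⬝ᵥ w₀)⁻¹) • w₀
      have hgw' : g ⬝ᵥ w = 0 := by simp [w, dotProduct_smul, hgw]
      have hfw' : f ⬝ᵥ w = -1 := by simp [w, dotProduct_smul, hfw]
      have hB : tv w g ∈ G := hg w hgw'
      set B := tv w g with hBdef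
      have hBinv : ((B⁻¹ : SpecialLinearGroup ι F) : Matrix ι ι F) = 1 + vecMulVec (-w) g := by
        rw [hBdef, tv_inv hgw', val_tv (by rw [dotProduct_neg, hgw', neg_zero])]
      have hfB : f ᵥ* ((B⁻¹ : SpecialLinearGroup ι F) : Matrix ι ι F) = f + g := by
        rw [hBinv, vecMul_add, vecMul_one, vecMul_vecMulVec, dotProduct_neg, hfw', neg_neg, one_smul]
      set z₀ := ((B⁻¹ : SpecialLinearGroup ι F) : Matrix ι ι F) *ᵥ z with hz0
      have hfz : f ⬝ᵥ z₀ = 0 := by rw [hz0, dotProduct_mulVec, hfB, hz]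
      have h := tv_conj B hfz
      rw [hfB, hz0, mulVec_mulVec, val_mul_inv, one_mulVec] at h
      rw [← h]
      exact G.mul_mem (G.mul_mem hB (hf _ hfz)) (G.inv_mem hB)

theorem mem_fullFunctionals {G : Subgroup (SpecialLinearGroup ι F)} {f : ι → F} :
    f ∈ fullFunctionals G ↔ ∀ z, f ⬝ᵥ z = 0 → tv z f ∈ G := Iff.rfl

theorem vecMul_mem_fullFunctionals {G : Subgroup (SpecialLinearGroup ι F)} {f : ι → F}
    (hf : f ∈ fullFunctionals G) {M : SpecialLinearGroup ι F} (hM : M ∈ G) :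
    f ᵥ* (M : Matrix ι ι F) ∈ fullFunctionals G := by
  intro z hz
  set z₀ := (M : Matrix ι ι F) *ᵥ z with hz0
  have hfz : f ⬝ᵥ z₀ = 0 := by rw [hz0, dotProduct_mulVec, hz]
  have h := tv_conj M⁻¹ hfz
  rw [inv_inv, hz0, mulVec_mulVec, val_inv_mul, one_mulVec] at h
  rw [← h]
  exact G.mul_mem (G.mul_mem (G.inv_mem hM) (hf _ hfz)) hM

end Cfsg.Agent.Known
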